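import Cfsg.Agent.Lib.JankoOne.Order.Main
import Cfsg.Agent.Lib.J1.Simple
import Cfsg.Prelude.Def_Sporadic

/-!
A simple group of order 175560 is the first Janko group.
-/

set_option autoImplicit false

namespace Cfsg.Agent.JankoOne

theorem isoJ1_of_isJ1 {G : Type*} [Group G] [Finite G] (h : Cfsg.IsJ1 G) : Cfsg.Spor.IsoJ1 G := by
  haveI := h.1
  haveI := Cfsg.Agent.J1.isSimple_J1
  obtain ⟨eG⟩ := Order.iso_tableGroup_of_card h.2
  obtain ⟨eJ⟩ := Order.iso_tableGroup_of_card (G := Cfsg.Spor.J1) Cfsg.Agent.J1.card_J1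
  exact ⟨eG.trans eJ.symm⟩

end Cfsg.Agent.JankoOne
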