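import Cfsg.Agent.Lib.JankoOne.Exclude

/-!
In a group of order 189000 with centraliser `Z₂ × A₅` the Sylow 5-subgroups give a doubly transitive action on
126 points, hence an irreducible character of degree 125.
-/

set_option autoImplicit false
set_option linter.style.haveILetI false

namespace Cfsg.Agent.JankoOne

open Cfsg Cfsg.Agent.Char

variable {G : Type*} [Group G] [Finite G] [IsSimpleGroup G] {ι : M →* G}

/-- The four-group generated by the central involution and an involution inverting `yM`. -/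
def A0 : Subgroup M where
  carrier := {m | m.2 = 1 ∨ m.2 = i5}
  one_mem' := Or.inl rfl
  mul_mem' := by
    rintro a b (ha | ha) (hb | hb)
    · exact Or.inl (show a.2 * b.2 = 1 by rw [ha, hb, one_mul])
    · exact Or.inr (show a.2 * b.2 = i5 by rw [ha, hb, one_mul])
    · exact Or.inr (show a.2 * b.2 = i5 by rw [ha, hb, mul_one])
    · exact Or.inl (show a.2 * b.2 = 1 by rw [ha, hb]; decide +kernel)
  inv_mem' := by
    rintro a (ha | ha)
    · exact Or.inl (show a.2⁻¹ = 1 by rw [ha, inv_one])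
    · exact Or.inr (show a.2⁻¹ = i5 by rw [ha]; decide +kernel)

theorem card_A0 : Nat.card A0 = 4 := by
  classical
  have h : (Finset.univ.filter fun m : M => m.2 = 1 ∨ m.2 = i5).card = 4 := by decide +kernel
  rw [← h, Nat.card_eq_fintype_card]
  exact Fintype.card_of_subtype _ fun m => by simp only [Finset.mem_filter, Finset.mem_univ, true_and]; exact Iff.rfl

theorem A0_conj : ∀ m : M, (m.2 = 1 ∨ m.2 = i5) → m * yM * m⁻¹ = yM ∨ m * yM * m⁻¹ = yM⁻¹ := by decide +kernel

theorem xM_cube : xM ^ 3 = 1 := yM_facts.2.2.2.2.2.2.2.1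

theorem dvd_378 : ∀ n : Fin 379, 378 % (n : ℕ) = 0 → (n : ℕ) % 5 = 1 →
    (n : ℕ) = 1 ∨ (n : ℕ) = 6 ∨ (n : ℕ) = 21 ∨ (n : ℕ) = 126 := by decide +kernel

theorem dvd_189 : ∀ n : Fin 190, 189 % (n : ℕ) = 0 → (n : ℕ) % 5 = 1 → (n : ℕ) = 1 ∨ (n : ℕ) = 21 := by
  decide +kernel

/-- The data on a Sylow 5-subgroup of a group of order 189000. -/
structure Five (ι : M →* G) (P : Sylow 5 G) : Prop where
  cent : ∀ g ∈ (P : Subgroup G), g * ι yM = ι yM * g
  mem : ∀ g : G, g * ι yM = ι yM * g → ∀ k : ℕ, g ^ 5 ^ k = 1 → g ∈ (P : Subgroup G)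
  card : Nat.card (P : Subgroup G) = 125
  norm : Nat.card (Subgroup.normalizer ((P : Subgroup G) : Set G)) = 1500
  num : Nat.card (Sylow 5 G) = 126

namespace Emb

variable (E : Emb ι)

include E

theorem exists_five (hG : Nat.card G = 189000) : ∃ (N : Subgroup G) (P : Sylow 5 G), OddPart ι yM N ∧ Five ι P := by
  haveI : Fact (Nat.Prime 5) := ⟨by norm_num⟩
  obtain ⟨N, R, hN, hRN, hR, hcard, hall⟩ := E.card_five hG
  obtain ⟨P, hP⟩ := hR.exists_le_sylow
  have hPcard : Nat.card (P : Subgroup G) = 125 := by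
    have h1 : 125 ∣ Nat.card (P : Subgroup G) := hcard ▸ Subgroup.card_dvd_of_le hP
    obtain ⟨q, hq⟩ := P.isPGroup'.exists_card_eq
    have h2 : Nat.card (P : Subgroup G) ∣ 189000 := hG ▸ Subgroup.card_subgroup_dvd_card _
    rw [hq] at h1 h2 ⊢
    have h3 : 3 ≤ q := (Nat.pow_dvd_pow_iff_le_right (by norm_num : 1 < 5)).1 h1
    have h4 : q < 4 := by
      by_contra h
      have := (pow_dvd_pow 5 (by omega : 4 ≤ q)).trans h2
      norm_num at this
    rw [show q = 3 by omega]; norm_num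
  have hRP : R = (P : Subgroup G) := Subgroup.eq_of_le_of_card_ge hP (by rw [hPcard, hcard])
  subst hRP
  have hconj : ∀ a : G, (a * ι yM * a⁻¹ = ι yM ∨ a * ι yM * a⁻¹ = (ι yM)⁻¹) →
      ∀ g ∈ (P : Subgroup G), a * g * a⁻¹ ∈ (P : Subgroup G) := fun a ha g hg => by
    obtain ⟨k, hk⟩ := P.isPGroup' ⟨g, hg⟩
    exact hall _ (E.normal_y ha (hN.le g (hRN hg))) k (by
      rw [conj_pow, show g ^ 5 ^ k = 1 from congrArg Subtype.val hk, mul_one, mul_inv_cancel])
  let Nr := Subgroup.normalizer ((P : Subgroup G) : Set G)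
  have hA : A0.map ι ≤ Nr := by
    rintro a ⟨m, hm, rfl⟩
    have hy : ∀ m : M, (m.2 = 1 ∨ m.2 = i5) → ι m * ι yM * (ι m)⁻¹ = ι yM ∨
        ι m * ι yM * (ι m)⁻¹ = (ι yM)⁻¹ := fun m hm => by
      rw [← map_inv, ← map_inv, ← map_mul, ← map_mul]
      rcases A0_conj m hm with h | h <;> simp [h]
    refine Subgroup.mem_normalizer_iff.2 fun g => ⟨hconj _ (hy m hm) g, fun hg => ?_⟩
    have h2 := hconj (ι m⁻¹) (hy m⁻¹ (A0.inv_mem hm)) _ hg
    rw [map_inv] at h2
    convert h2 using 1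
    group
  have h500 : 500 ∣ Nat.card Nr := by
    have h1 : 125 ∣ Nat.card Nr := hPcard ▸ Subgroup.card_dvd_of_le Subgroup.le_normalizer
    have h2 : 4 ∣ Nat.card Nr := by
      rw [← card_A0, ← Subgroup.card_map_of_injective E.inj]
      exact Subgroup.card_dvd_of_le hA
    exact Nat.Coprime.mul_dvd_of_dvd_of_dvd (by norm_num : Nat.Coprime 125 4) h1 h2
  have hidx : Nat.card (Sylow 5 G) * Nat.card Nr = 189000 := by
    rw [P.card_eq_index_normalizer, mul_comm, ← hG]
    exact Subgroup.card_mul_index _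
  obtain ⟨q, hq⟩ := h500
  rw [hq] at hidx
  have hn : Nat.card (Sylow 5 G) ∣ 378 := ⟨q, by linarith⟩
  have hmod : Nat.card (Sylow 5 G) % 5 = 1 := by
    have h := card_sylow_modEq_one 5 G
    exact h
  have hle := Nat.le_of_dvd (by norm_num) hn
  have h126 : Nat.card (Sylow 5 G) = 126 := by
    rcases dvd_378 ⟨_, Nat.lt_succ_of_le hle⟩ (Nat.mod_eq_zero_of_dvd hn) hmod with h | h | h | h
    · exfalso
      simp only at h
      have hnorm : Nr = ⊤ := Subgroup.eq_top_of_card_eq _ (by rw [hq, hG]; rw [h, one_mul] at hidx; exact hidx)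
      have hnP : (P : Subgroup G).Normal := Subgroup.normalizer_eq_top_iff.1 hnorm
      rcases hnP.eq_bot_or_eq_top with hb | ht
      · rw [hb, Subgroup.card_bot] at hPcard; omega
      · rw [ht, Subgroup.card_top, hG] at hPcard; omega
    · exfalso
      simp only at h
      let f := MulAction.toPermHom G (Sylow 5 G)
      rcases f.normal_ker.eq_bot_or_eq_top with hb | ht
      · have hd := Subgroup.card_dvd_of_injective f ((MonoidHom.ker_eq_bot_iff f).1 hb)
        rw [hG, Nat.card_perm, h] at hd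
        norm_num [Nat.factorial] at hd
      · have : Subsingleton (Sylow 5 G) := ⟨fun A B => by
          obtain ⟨g, rfl⟩ := MulAction.exists_smul_eq G A B
          have hg : f g = 1 := MonoidHom.mem_ker.1 (ht ▸ Subgroup.mem_top g)
          exact (congrArg (fun σ : Equiv.Perm (Sylow 5 G) => σ A) hg).symm⟩
        have := Finite.card_le_one_iff_subsingleton.2 this
        omega
    · exact absurd h Cfsg.Agent.S1010.result
    · exact h
  refine ⟨N, P, hN, ⟨fun g hg => hN.le g (hRN hg), hall, hPcard, ?_, h126⟩⟩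
  show Nat.card Nr = 1500
  rw [hq]
  rw [h126] at hidx
  omega

theorem five_commutative {N : Subgroup G} {P : Sylow 5 G} (hN : OddPart ι yM N) (hP : Five ι P)
    (hG : Nat.card G = 189000) : ∀ a ∈ (P : Subgroup G), ∀ b ∈ (P : Subgroup G), a * b = b * a := by
  classical
  haveI : Fact (Nat.Prime 5) := ⟨by norm_num⟩
  haveI : Fact (Nat.Prime 3) := ⟨by norm_num⟩
  by_contra hab
  set y : G := ι yM with hy
  have hy5 : y ^ 5 = 1 := by rw [hy, ← map_pow, yM_facts.1, map_one]
  have hy1 : y ≠ 1 := fun h => yM_facts.2.1 (E.inj (h.trans (map_one ι).symm))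
  have hyo : orderOf y = 5 := orderOf_eq_prime hy5 hy1
  have hyP : y ∈ (P : Subgroup G) := hP.mem y rfl 1 hy5
  let yP : (P : Subgroup G) := ⟨y, hyP⟩
  have hycen : yP ∈ Subgroup.center (P : Subgroup G) :=
    Subgroup.mem_center_iff.2 fun g => Subtype.ext (hP.cent g g.2)
  haveI : Nontrivial (P : Subgroup G) := Finite.one_lt_card_iff_nontrivial.1 (by rw [hP.card]; norm_num)
  obtain ⟨i, hi⟩ := (P.isPGroup'.to_subgroup (Subgroup.center _)).exists_card_eq
  have hquot : Nat.card ((P : Subgroup G) ⧸ Subgroup.center (P : Subgroup G)) * 5 ^ i = 125 := by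
    rw [← hi, ← Subgroup.card_eq_card_quotient_mul_card_subgroup, hP.card]
  have hzc : Nat.card (Subgroup.center (P : Subgroup G)) = 5 := by
    have hnt := P.isPGroup'.center_nontrivial
    rw [← Finite.one_lt_card_iff_nontrivial, hi] at hnt
    have hi3 : i ≤ 3 := by
      have hd : 5 ^ i ∣ 5 ^ 3 := ⟨_, by rw [mul_comm]; exact hquot.symm⟩
      exact (Nat.pow_dvd_pow_iff_le_right (by norm_num)).1 hd
    interval_cases i
    · norm_num at hnt
    · rw [hi]; norm_num
    · exfalso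
      haveI : IsCyclic ((P : Subgroup G) ⧸ Subgroup.center (P : Subgroup G)) :=
        isCyclic_of_prime_card (p := 5) (by norm_num at hquot; omega)
      exact hab fun a ha b hb => congrArg Subtype.val
        (commutative_of_cyclic_center_quotient (QuotientGroup.mk' (Subgroup.center (P : Subgroup G)))
          (by rw [QuotientGroup.ker_mk']) ⟨a, ha⟩ ⟨b, hb⟩)
    · have htop := Subgroup.eq_top_of_card_eq (Subgroup.center (P : Subgroup G)) (by rw [hi, hP.card]; norm_num)
      refine (hab fun a ha b hb => ?_).elim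
      exact congrArg Subtype.val
        (Subgroup.mem_center_iff.1 (htop ▸ Subgroup.mem_top (⟨b, hb⟩ : (P : Subgroup G))) ⟨a, ha⟩)
  let zy : Subgroup.center (P : Subgroup G) := ⟨yP, hycen⟩
  have hzyo : orderOf zy = 5 := by rw [← Subgroup.orderOf_coe, ← Subgroup.orderOf_coe]; exact hyo
  have hgen : ∀ c : Subgroup.center (P : Subgroup G), ∃ k : ℕ, ((c : (P : Subgroup G)) : G) = y ^ k := by
    intro c
    have htop : Subgroup.zpowers zy = ⊤ := Subgroup.eq_top_of_card_eq _ (by rw [Nat.card_zpowers, hzc, hzyo])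
    obtain ⟨k, hk⟩ := mem_powers_iff_mem_zpowers.2 (htop ▸ Subgroup.mem_top c)
    exact ⟨k, (congrArg (fun w : Subgroup.center (P : Subgroup G) => ((w : (P : Subgroup G)) : G)) hk).symm⟩
  let Nr := Subgroup.normalizer ((P : Subgroup G) : Set G)
  obtain ⟨x, hx⟩ := exists_prime_orderOf_dvd_card' (G := Nr) 3 (by rw [hP.norm]; norm_num)
  set x3 : G := (x : G) with hx3
  have hxo : orderOf x3 = 3 := by rw [hx3, Subgroup.orderOf_coe, hx]
  have hx33 : x3 ^ 3 = 1 := hxo ▸ pow_orderOf_eq_one x3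
  have hxn := Subgroup.mem_normalizer_iff.1 x.2
  obtain ⟨m, hm⟩ : ∃ m : ℕ, x3 * y * x3⁻¹ = y ^ m := by
    refine hgen ⟨⟨_, (hxn y).1 hyP⟩, Subgroup.mem_center_iff.2 fun g => Subtype.ext ?_⟩
    have hg' : x3⁻¹ * g * x3 ∈ (P : Subgroup G) := by
      rw [hxn]
      convert g.2 using 1
      rw [hx3]; group
    have h := hP.cent _ hg'
    show (g : G) * (x3 * y * x3⁻¹) = x3 * y * x3⁻¹ * g
    calc (g : G) * (x3 * y * x3⁻¹) = x3 * (x3⁻¹ * g * x3 * y) * x3⁻¹ := by group
      _ = x3 * (y * (x3⁻¹ * g * x3)) * x3⁻¹ := by rw [h]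
      _ = _ := by group
  have hxy : x3 * y = y * x3 := by
    have h2 : ∀ k : ℕ, x3 * y ^ k * x3⁻¹ = y ^ (m * k) := fun k => by rw [← conj_pow, hm, pow_mul]
    have h3 : y ^ (m * (m * m)) = y := by
      rw [← h2, ← h2, ← hm]
      calc x3 * (x3 * (x3 * y * x3⁻¹) * x3⁻¹) * x3⁻¹ = x3 ^ 3 * y * (x3 ^ 3)⁻¹ := by
            rw [pow_succ, pow_succ, pow_one]; group
        _ = y := by rw [hx33]; group
    have h4 : m * (m * m) % 5 = 1 := by
      nth_rewrite 2 [← pow_one y] at h3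
      rw [pow_eq_pow_iff_modEq, hyo] at h3
      exact h3
    have h5 : m % 5 = 1 := by
      rw [Nat.mul_mod, Nat.mul_mod m m] at h4
      have : m % 5 = 0 ∨ m % 5 = 1 ∨ m % 5 = 2 ∨ m % 5 = 3 ∨ m % 5 = 4 := by omega
      rcases this with h | h | h | h | h <;> rw [h] at h4 ⊢ <;> norm_num at h4
    rw [pow_eq_pow_mod m hy5, h5, pow_one] at hm
    exact mul_inv_eq_iff_eq_mul.1 hm
  have hxN : x3 ∈ N := hN.mem_of_odd x3 hxy 3 (by decide) hx33
  -- the odd part normalises the group generated by `x3`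
  have hNNr : N ≤ Nr := by
    intro g hg
    have hc : ∀ g' ∈ N, ∀ b ∈ (P : Subgroup G), g' * b * g'⁻¹ ∈ (P : Subgroup G) := fun g' hg' b hb => by
      obtain ⟨k, hk⟩ := P.isPGroup' ⟨b, hb⟩
      refine hP.mem _ (E.normal_y (Or.inl ?_) (hP.cent b hb)) k (by
        rw [conj_pow, show b ^ 5 ^ k = 1 from congrArg Subtype.val hk, mul_one, mul_inv_cancel])
      rw [mul_inv_eq_iff_eq_mul]; exact hN.le g' hg'
    refine Subgroup.mem_normalizer_iff.2 fun b => ⟨hc g hg b, fun h => ?_⟩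
    have := hc g⁻¹ (inv_mem hg) _ h
    convert this using 1
    group
  have hN9 : ¬ 9 ∣ Nat.card N := fun h => by
    have := h.trans (Subgroup.card_dvd_of_le hNNr)
    rw [hP.norm] at this
    norm_num at this
  have hxcen : ∀ g ∈ N, g * x3 = x3 * g := by
    intro g hg
    obtain ⟨k, hk⟩ := hN.comm g hg x3 hxN
    have hyx : Commute (y ^ k) x3 := Commute.pow_left hxy.symm k
    have h3 : y ^ (k * 3) = 1 := by
      have := congrArg (· ^ 3) hk
      simp only [conj_pow, hx33, mul_one, mul_inv_cancel] at this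
      rw [← hy, hyx.mul_pow, hx33, mul_one, ← pow_mul] at this
      exact this.symm
    have h5 : 5 ∣ k * 3 := hyo ▸ orderOf_dvd_of_pow_eq_one h3
    obtain ⟨l, rfl⟩ := (Nat.Coprime.dvd_of_dvd_mul_right (by norm_num) h5 : 5 ∣ k)
    rw [pow_mul, hy5, one_pow, one_mul] at hk
    exact mul_inv_eq_iff_eq_mul.1 hk
  have hgen3 : ∀ b ∈ N, b ^ 3 = 1 → ∃ j : ℕ, b = x3 ^ j := by
    intro b hb hb3
    let bx : N := ⟨b, hb⟩
    let xx : N := ⟨x3, hxN⟩
    by_contra hne
    push Not at hne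
    let T : Subgroup N := Subgroup.zpowers xx
    haveI : T.Normal := ⟨fun w hw g => by
      obtain ⟨j, rfl⟩ := hw
      have hc : Commute g xx := Subtype.ext (hxcen g g.2)
      rw [show g * xx ^ j * g⁻¹ = xx ^ j by rw [(hc.zpow_right j).eq, mul_inv_cancel_right]]
      exact ⟨j, rfl⟩⟩
    have hbT : (QuotientGroup.mk bx : N ⧸ T) ≠ 1 := fun h => by
      obtain ⟨j, hj⟩ := mem_powers_iff_mem_zpowers.2 ((QuotientGroup.eq_one_iff bx).1 h)
      exact hne j (congrArg Subtype.val hj).symm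
    have ho : orderOf (QuotientGroup.mk bx : N ⧸ T) = 3 := orderOf_eq_prime (by
      rw [← QuotientGroup.mk_pow, show bx ^ 3 = 1 from Subtype.ext hb3, QuotientGroup.mk_one]) hbT
    have hd := orderOf_dvd_natCard (QuotientGroup.mk bx : N ⧸ T)
    rw [ho] at hd
    refine hN9 ?_
    rw [Subgroup.card_eq_card_quotient_mul_card_subgroup T, Nat.card_zpowers, ← Subgroup.orderOf_coe, show ((xx : N) : G) = x3 from rfl, hxo]
    exact Nat.mul_dvd_mul hd dvd_rfl
  have hx31 : x3 ≠ 1 := fun h => by rw [h, orderOf_one] at hxo; omega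
  have hnor : ∀ a : G, a * a = 1 → (a * y * a⁻¹ = y ∨ a * y * a⁻¹ = y⁻¹) →
      a * x3 * a⁻¹ = x3 ∨ a * x3 * a⁻¹ = x3⁻¹ := by
    intro a ha hay
    have h3 : (a * x3 * a⁻¹) ^ 3 = 1 := by rw [conj_pow, hx33, mul_one, mul_inv_cancel]
    obtain ⟨j, hj⟩ := hgen3 _ (hN.mem_of_odd _ (E.normal_y hay hxy) 3 (by decide) h3) h3
    exact eq_pow_of_conj_sq hxo ha hj
  obtain ⟨-, -, hv2, hv1, hvy, htv, -, -, -⟩ := yM_facts
  have htt : ι tM * ι tM = 1 := by rw [← map_mul, tM_sq.1, map_one]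
  have hty : ι tM * y * (ι tM)⁻¹ = y := by rw [mul_inv_eq_iff_eq_mul, hy, ← map_mul, ← map_mul, tM_comm]
  have hvy' : ι vM * y * (ι vM)⁻¹ = y⁻¹ := by rw [hy, ← map_inv, ← map_inv, ← map_mul, ← map_mul, hvy]
  have hv2' : ι vM * ι vM = 1 := by rw [← map_mul, hv2, map_one]
  have ht : ι tM * x3 * (ι tM)⁻¹ = x3⁻¹ := (hnor _ htt (Or.inl hty)).resolve_left fun h => by
    obtain ⟨k, hk⟩ := hN.fix x3 hxN (mul_inv_eq_iff_eq_mul.1 h).symm
    have h5 : x3 ^ 5 = 1 := by rw [hk, ← pow_mul, mul_comm, pow_mul, ← hy, hy5, one_pow]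
    have h35 := orderOf_dvd_of_pow_eq_one h5
    rw [hxo] at h35
    norm_num at h35
  obtain ⟨a, ha2, ha1, hac⟩ : ∃ a : G, a * a = 1 ∧ a ≠ 1 ∧ a * x3 = x3 * a := by
    rcases hnor _ hv2' (Or.inr hvy') with h | h
    · exact ⟨ι vM, hv2', fun h' => hv1 (E.inj (h'.trans (map_one ι).symm)), mul_inv_eq_iff_eq_mul.1 h⟩
    · refine ⟨ι (tM * vM), ?_, fun h' => htv (E.inj (h'.trans (map_one ι).symm)), ?_⟩
      · rw [← map_mul, show tM * vM * (tM * vM) = tM * (vM * tM) * vM by group, tM_comm, ← mul_assoc,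
          tM_sq.1, one_mul, hv2, map_one]
      · refine mul_inv_eq_iff_eq_mul.1 ?_
        rw [map_mul, show ι tM * ι vM * x3 * (ι tM * ι vM)⁻¹ = ι tM * (ι vM * x3 * (ι vM)⁻¹) * (ι tM)⁻¹ by
          group, h, ← conj_inv, ht, inv_inv]
  obtain ⟨d, hd⟩ := isConj_iff.1 (E.conj_t ha2 ha1).symm
  obtain ⟨mm, hmm⟩ := E.cent (d * x3 * d⁻¹) (by
    rw [← hd, show d * x3 * d⁻¹ * (d * a * d⁻¹) = d * (x3 * a) * d⁻¹ by group,
      show d * a * d⁻¹ * (d * x3 * d⁻¹) = d * (a * x3) * d⁻¹ by group, hac])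
  have hm3 : mm ^ 3 = 1 := E.inj (by rw [map_pow, hmm, conj_pow, hx33, mul_one, mul_inv_cancel, map_one])
  have hm1 : mm ≠ 1 := fun h => hx31 (conj_eq_one_iff.1 (by rw [← hmm, h, map_one]))
  obtain ⟨g0, hg0⟩ := three_elt mm hm3 hm1
  set c : G := ι ((1, g0) : M) * d with hc
  have hcx : c * x3 * c⁻¹ = ι xM := by
    rw [← hg0, map_mul, map_mul, map_inv, hmm, hc]; group
  obtain ⟨Nx, hNx⟩ := E.exists_oddPart (p := 3) (Or.inl rfl) (tM_comm xM) xM_cube xM_cent.1
    xM_cent.2.1 xM_cent.2.2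
  refine hab fun p hp q hq => ?_
  have hmemN : ∀ g ∈ (P : Subgroup G), g ∈ N := fun g hg => by
    obtain ⟨k, hk⟩ := P.isPGroup' ⟨g, hg⟩
    exact hN.mem_of_odd g (hP.cent g hg) (5 ^ k) (Odd.pow (by decide)) (congrArg Subtype.val hk)
  have hmemX : ∀ g ∈ (P : Subgroup G), c * g * c⁻¹ ∈ Nx := fun g hg => by
    obtain ⟨k, hk⟩ := P.isPGroup' ⟨g, hg⟩
    refine hNx.mem_of_odd _ ?_ (5 ^ k) (Odd.pow (by decide)) ?_
    · rw [← hcx, show c * g * c⁻¹ * (c * x3 * c⁻¹) = c * (g * x3) * c⁻¹ by group, hxcen g (hmemN g hg)]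
      group
    · rw [conj_pow, show g ^ 5 ^ k = 1 from congrArg Subtype.val hk, mul_one, mul_inv_cancel]
  obtain ⟨k, hk⟩ := hNx.comm _ (hmemX p hp) _ (hmemX q hq)
  obtain ⟨l, hl⟩ := P.isPGroup' ⟨p * q * p⁻¹ * q⁻¹, mul_mem (mul_mem (mul_mem hp hq) (inv_mem hp)) (inv_mem hq)⟩
  have hl' : (p * q * p⁻¹ * q⁻¹) ^ 5 ^ l = 1 := congrArg Subtype.val hl
  have hcom : c * (p * q * p⁻¹ * q⁻¹) * c⁻¹ = ι xM ^ k := by
    rw [← mul_left_inj (c * q * c⁻¹), ← hk]
    group
  have h1 : (ι xM ^ k) ^ 3 = 1 := by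
    rw [← pow_mul, mul_comm, pow_mul, ← map_pow, xM_cube, map_one, one_pow]
  have h2 : (ι xM ^ k) ^ 5 ^ l = 1 := by rw [← hcom, conj_pow, hl', mul_one, mul_inv_cancel]
  have h3 : ι xM ^ k = 1 := orderOf_eq_one_iff.1 (Nat.eq_one_of_dvd_coprimes
    (Nat.Coprime.pow_right l (by norm_num : Nat.Coprime 3 5)) (orderOf_dvd_of_pow_eq_one h1)
    (orderOf_dvd_of_pow_eq_one h2))
  rw [h3, conj_eq_one_iff, mul_inv_eq_one, mul_inv_eq_iff_eq_mul] at hcom
  exact hcom

theorem trivial_meet {N : Subgroup G} {P : Sylow 5 G} (hN : OddPart ι yM N) (hP : Five ι P)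
    (hG : Nat.card G = 189000) (Q : Sylow 5 G) (hQ : Q ≠ P) (w : G) (hwP : w ∈ (P : Subgroup G))
    (hwQ : w ∈ (Q : Subgroup G)) : w = 1 := by
  classical
  haveI : Fact (Nat.Prime 5) := ⟨by norm_num⟩
  by_contra hw1
  obtain ⟨k, hk⟩ := P.isPGroup' ⟨w, hwP⟩
  have hwk : w ^ 5 ^ k = 1 := congrArg Subtype.val hk
  obtain ⟨m, -, hm⟩ := (Nat.dvd_prime_pow Nat.prime_five).1 (orderOf_dvd_of_pow_eq_one hwk)
  have hm0 : m ≠ 0 := fun h => hw1 (orderOf_eq_one_iff.1 (by rw [hm, h, pow_zero]))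
  set u : G := w ^ 5 ^ (m - 1) with hu
  have hu5 : u ^ 5 = 1 := by
    rw [hu, ← pow_mul, ← pow_succ, show m - 1 + 1 = m by omega, ← hm, pow_orderOf_eq_one]
  have hu1 : u ≠ 1 := fun h => by
    have := Nat.le_of_dvd (by positivity) (orderOf_dvd_of_pow_eq_one h)
    rw [hm] at this
    have := Nat.pow_lt_pow_right (by norm_num : 1 < 5) (by omega : m - 1 < m)
    omega
  have huP : u ∈ (P : Subgroup G) := pow_mem hwP _
  have huQ : u ∈ (Q : Subgroup G) := pow_mem hwQ _
  have hcomm := five_commutative E hN hP hG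
  obtain ⟨c, hc⟩ := MulAction.exists_smul_eq G P Q
  have hQmem : ∀ g, g ∈ (Q : Subgroup G) ↔ c⁻¹ * g * c ∈ (P : Subgroup G) := by
    intro g
    rw [← hc, Sylow.coe_subgroup_smul, Subgroup.mem_pointwise_smul_iff_inv_smul_mem]
    rw [← map_inv]
    simp
  have hQu : ∀ g ∈ (Q : Subgroup G), g * u = u * g := fun g hg => by
    have h := hcomm _ ((hQmem g).1 hg) _ ((hQmem u).1 huQ)
    calc g * u = c * (c⁻¹ * g * c * (c⁻¹ * u * c)) * c⁻¹ := by group
      _ = c * (c⁻¹ * u * c * (c⁻¹ * g * c)) * c⁻¹ := by rw [h]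
      _ = u * g := by group
  have hPu : ∀ g ∈ (P : Subgroup G), g * u = u * g := fun g hg => hcomm g hg u huP
  by_cases heven : 2 ∣ Nat.card (Subgroup.centralizer ({u} : Set G))
  · haveI : Fact (Nat.Prime 2) := ⟨Nat.prime_two⟩
    obtain ⟨a, ha⟩ := exists_prime_orderOf_dvd_card' (G := Subgroup.centralizer ({u} : Set G)) 2 heven
    have ha2 : (a : G) * a = 1 := by
      have h : a ^ 2 = 1 := ha ▸ pow_orderOf_eq_one a
      rw [← pow_two]
      exact congrArg Subtype.val h
    have ha1 : (a : G) ≠ 1 := fun h => by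
      rw [show a = 1 from Subtype.ext h, orderOf_one] at ha; omega
    obtain ⟨d, hd⟩ := E.five_conj hu5 hu1 ha2 ha1 (Subgroup.mem_centralizer_singleton_iff.1 a.2)
    have himg : ∀ R : Sylow 5 G, (∀ g ∈ (R : Subgroup G), g * u = u * g) →
        d • R = P := fun R hR => by
      refine Sylow.ext (Subgroup.eq_of_le_of_card_ge (fun g hg => ?_) ?_)
      · rw [Sylow.coe_subgroup_smul] at hg
        obtain ⟨r, hr, rfl⟩ := (Subgroup.mem_map.1 hg : ∃ r ∈ (R : Subgroup G), _)
        obtain ⟨j, hj⟩ := R.isPGroup' ⟨r, hr⟩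
        refine hP.mem (d * r * d⁻¹) ((hd r).1 (hR r hr)) j ?_
        rw [conj_pow, show r ^ 5 ^ j = 1 from congrArg Subtype.val hj, mul_one, mul_inv_cancel]
      · exact le_of_eq (Sylow.card_eq_multiplicity P |>.trans (Sylow.card_eq_multiplicity (d • R)).symm)
    exact hQ (MulAction.injective d ((himg Q hQu).trans (himg P hPu).symm))
  · set D : Subgroup G := Subgroup.centralizer ({u} : Set G) with hD
    have hPD : (P : Subgroup G) ≤ D := fun g hg => Subgroup.mem_centralizer_singleton_iff.2 (hPu g hg)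
    have hQD : (Q : Subgroup G) ≤ D := fun g hg => Subgroup.mem_centralizer_singleton_iff.2 (hQu g hg)
    let P' : Sylow 5 D := P.subtype hPD
    let Q' : Sylow 5 D := Q.subtype hQD
    have hne : P' ≠ Q' := fun h => hQ (Sylow.subtype_injective h).symm
    have hi := P'.card_dvd_index
    have hcard : (P' : Subgroup D).index * 125 = Nat.card D := by
      rw [← (P' : Subgroup D).card_mul_index, mul_comm]
      congr 1
      rw [← hP.card]
      exact (Nat.card_congr (Subgroup.subgroupOfEquivOfLe hPD).toEquiv).symm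
    have h189 : Nat.card (Sylow 5 D) ∣ 189 := by
      have h1 : (P' : Subgroup D).index ∣ 1512 := by
        have h2 : Nat.card D ∣ 189000 := hG ▸ Subgroup.card_subgroup_dvd_card D
        rw [← hcard, show 189000 = 1512 * 125 by norm_num] at h2
        exact Nat.dvd_of_mul_dvd_mul_right (by norm_num) h2
      have hodd : ¬ 2 ∣ (P' : Subgroup D).index := fun h => heven (hcard ▸ h.mul_right 125)
      refine hi.trans ?_
      rw [show 1512 = 8 * 189 by norm_num] at h1
      exact (Nat.Coprime.pow_right 3 ((Nat.prime_two.coprime_iff_not_dvd.2 hodd).symm)).dvd_of_dvd_mul_left h1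
    have hle := Nat.le_of_dvd (by norm_num) h189
    rcases dvd_189 ⟨_, Nat.lt_succ_of_le hle⟩ (Nat.mod_eq_zero_of_dvd h189) (card_sylow_modEq_one 5 D) with h | h
    · simp only at h
      haveI := (Nat.card_eq_one_iff_unique.1 h).1
      exact hne (Subsingleton.elim _ _)
    · exact Cfsg.Agent.S1010.result h

theorem exists_degree_125 [Fintype G] (hG : Nat.card G = 189000) :
    ∃ χ : IrrCharacter G, χ.1 1 = 125 := by
  classical
  haveI : Fact (Nat.Prime 5) := ⟨by norm_num⟩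
  obtain ⟨N, P, hN, hP⟩ := E.exists_five hG
  have htrans : ∀ Q R : Sylow 5 G, Q ≠ P → R ≠ P → ∃ g : G, g • P = P ∧ g • Q = R := by
    intro Q R hQ hR
    have hPfix : ∀ p : (P : Subgroup G), (p : G) • P = P := fun p =>
      Sylow.smul_eq_iff_mem_normalizer.2 (Subgroup.le_normalizer p.2)
    let f : ↥(P : Subgroup G) → {Q : Sylow 5 G // Q ≠ P} := fun p => ⟨(p : G) • Q, fun h =>
      hQ (MulAction.injective (p : G) (h.trans (hPfix p).symm))⟩
    have hf : Function.Injective f := fun p q h => by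
      have h' : (p : G) • Q = (q : G) • Q := congrArg Subtype.val h
      have hfix : ((q : G)⁻¹ * p) • Q = Q := by rw [mul_smul, h', inv_smul_smul]
      have hmem : (q : G)⁻¹ * p ∈ (P : Subgroup G) := mul_mem (inv_mem q.2) p.2
      have hnQ : (q : G)⁻¹ * p ∈ Subgroup.normalizer ((Q : Subgroup G) : Set G) :=
        Sylow.smul_eq_iff_mem_normalizer.1 hfix
      have hzp : IsPGroup 5 (Subgroup.zpowers ((q : G)⁻¹ * p)) :=
        P.isPGroup'.to_le (Subgroup.zpowers_le.2 hmem)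
      have hQmem : (q : G)⁻¹ * p ∈ (Q : Subgroup G) := by
        have h := hzp.to_sup_of_normal_right' Q.isPGroup' (Subgroup.zpowers_le.2 hnQ)
        rw [← Q.is_maximal' h le_sup_right]
        exact Subgroup.mem_sup_left (Subgroup.mem_zpowers _)
      exact Subtype.ext (inv_mul_eq_one.1 (trivial_meet E hN hP hG Q hQ _ hmem hQmem)).symm
    have hc : Nat.card {Q : Sylow 5 G // Q ≠ P} = 125 := by
      haveI := Fintype.ofFinite (Sylow 5 G)
      rw [Nat.card_eq_fintype_card, Fintype.card_subtype_compl, Fintype.card_subtype_eq,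
        ← Nat.card_eq_fintype_card, hP.num]
    obtain ⟨p, hp⟩ := (hf.bijective_of_nat_card_le (by rw [hc, hP.card])).2 ⟨R, hR⟩
    exact ⟨p, hPfix p, congrArg Subtype.val hp⟩
  have hex : ∃ Q : Sylow 5 G, Q ≠ P := by
    by_contra hc
    push Not at hc
    haveI : Subsingleton (Sylow 5 G) := ⟨fun a b => (hc a).trans (hc b).symm⟩
    have := Finite.card_le_one_iff_subsingleton.2 this
    rw [hP.num] at this
    omega
  obtain ⟨Q0, hQ0⟩ := hex
  have h2 : Nat.card (Quotient (MulAction.orbitRel G (Sylow 5 G × Sylow 5 G))) = 2 := by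
    refine FourTrans.card_orbits (fun z => if z.1 = z.2 then 0 else 1) (fun g z => ?_) (fun c => ?_) ?_
    · simp [smul_left_cancel_iff]
    · fin_cases c
      · exact ⟨(P, P), by simp⟩
      · exact ⟨(P, Q0), by simp [hQ0.symm]⟩
    · rintro ⟨a, b⟩ ⟨a', b'⟩ h
      obtain ⟨g, hg⟩ := MulAction.exists_smul_eq G a P
      obtain ⟨g', hg'⟩ := MulAction.exists_smul_eq G a' P
      by_cases hab : a = b
      · have hab' : a' = b' := by
          by_contra hne
          simp [hab, hne] at h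
        refine ⟨g'⁻¹ * g, ?_⟩
        subst hab; subst hab'
        simp [mul_smul, hg, ← hg']
      · have hab' : a' ≠ b' := fun he => by simp [hab, he] at h
        obtain ⟨p, hp1, hp2⟩ := htrans (g • b) (g' • b')
          (fun he => hab (MulAction.injective g (hg.trans he.symm)))
          (fun he => hab' (MulAction.injective g' (hg'.trans he.symm)))
        refine ⟨g'⁻¹ * (p * g), Prod.ext ?_ ?_⟩
        · show (g'⁻¹ * (p * g)) • a = a'
          rw [mul_smul, mul_smul, hg, hp1, ← hg', inv_smul_smul]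
        · show (g'⁻¹ * (p * g)) • b = b'
          rw [mul_smul, mul_smul, hp2, inv_smul_smul]
  have h1 : Nat.card (Quotient (MulAction.orbitRel G (Sylow 5 G))) = 1 := by
    haveI : Nonempty (Quotient (MulAction.orbitRel G (Sylow 5 G))) := ⟨Quotient.mk _ P⟩
    haveI : Subsingleton (Quotient (MulAction.orbitRel G (Sylow 5 G))) := ⟨by
      rintro ⟨a⟩ ⟨b⟩
      obtain ⟨g, rfl⟩ := MulAction.exists_smul_eq G b a
      exact Quotient.sound (MulAction.orbitRel_apply.mpr (MulAction.mem_orbit b g))⟩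
    exact Nat.card_of_subsingleton (Quotient.mk _ P)
  have hnorm := FourTrans.classInner_piX (G := G) (Sylow 5 G) (Sylow 5 G) h2
  obtain ⟨m, hm⟩ := IsCharacter.exists_decomp (FourTrans.isCharacter_piX (G := G) (Sylow 5 G))
  have hsum : ∑ χ, m χ * m χ = 2 := by
    rw [hm, classInner_combination₂] at hnorm
    simp only [map_natCast] at hnorm
    exact_mod_cast hnorm
  have hm1 : m (principal G) = 1 := by
    have h := classInner_combination (fun χ => (m χ : ℂ)) (principal G)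
    rw [← hm] at h
    simp only [Cfsg.classInner, principal, map_one, mul_one, FourTrans.piX] at h
    rw [← Nat.cast_sum, sum_natCard_fixedBy, h1, one_mul, inv_mul_cancel₀ (Nat.cast_ne_zero.2 Nat.card_pos.ne')] at h
    exact_mod_cast h.symm
  have hrest : ∑ χ ∈ Finset.univ.erase (principal G), m χ * m χ = 1 := by
    have := Finset.add_sum_erase Finset.univ (fun χ => m χ * m χ) (Finset.mem_univ (principal G))
    simp only [hm1, hsum, mul_one] at this
    omega
  obtain ⟨χ, hχ, hχ0⟩ : ∃ χ ∈ Finset.univ.erase (principal G), m χ * m χ ≠ 0 :=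
    Finset.exists_ne_zero_of_sum_ne_zero (by omega)
  have hχ1 : m χ = 1 ∧ ∀ b ∈ (Finset.univ.erase (principal G)).erase χ, m b = 0 := by
    rw [← Finset.add_sum_erase _ _ hχ] at hrest
    have hpos : 1 ≤ m χ * m χ := Nat.one_le_iff_ne_zero.2 hχ0
    refine ⟨Nat.eq_one_of_mul_eq_one_left (by omega : m χ * m χ = 1), fun b hb => ?_⟩
    have := Finset.sum_eq_zero_iff.1 (by omega : ∑ x ∈ (Finset.univ.erase (principal G)).erase χ, m x * m x = 0) b hb
    exact mul_self_eq_zero.1 this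
  refine ⟨χ, ?_⟩
  have h126 := congrFun hm 1
  rw [FourTrans.piX_one, hP.num, Finset.sum_apply, ← Finset.add_sum_erase _ _ (Finset.mem_univ (principal G)),
    ← Finset.add_sum_erase _ _ hχ, Finset.sum_eq_zero (fun b hb => by simp [hχ1.2 b hb])] at h126
  simp only [Pi.smul_apply, smul_eq_mul, hm1, hχ1.1, Nat.cast_one, one_mul, add_zero,
    show (principal G : IrrCharacter G).1 1 = 1 from rfl] at h126
  push_cast at h126
  linear_combination -h126

end Emb

end Cfsg.Agent.JankoOne
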