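import Mathlib.Tactic.Linarith
import Mathlib.Tactic.FieldSimp
import Mathlib.Tactic.Ring
import Mathlib.Tactic.LinearCombination
import Mathlib.Tactic.IntervalCases
import Mathlib.Algebra.Order.Field.Rat
import Mathlib.Data.Int.GCD
import Mathlib.RingTheory.Int.Basic

/-!
The Diophantine problems left by the generalised decomposition numbers: the only possible orders are
175560 and 189000.
-/

set_option autoImplicit false

namespace Cfsg.Agent.JankoOne

/-- The check for a candidate with eight odd rows. -/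
def chk8 (a b : ℤ) : Bool :=
  let c := a + 1 - b
  let den := (a + 1) * (b * c - 25 * a)
  let num := 86400 * a * b * c
  let g := num / den
  let x := 14 * 14400 * a * b * c - 25 * g * a * (b + c) - g * b * c * (a + 1)
  !(decide (den ≠ 0) && decide (num % den = 0) && decide (0 < g) && decide (g % 840 = 0) &&
      decide (g % 16 ≠ 0) && decide (g % a = 0) && decide (g % b = 0) && decide (g % c = 0) &&
      decide (a * a + b * b + c * c < g) && decide (x ≠ 0) &&
      decide (18 * (1 + a) * g * (a * b * c) % x = 0)) ||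
    decide (g = 175560 ∨ (g = 189000 ∧ a = -15 ∧ ((b = 21 ∧ c = -35) ∨ (b = -35 ∧ c = 21))))

theorem chk8_box :
    ((List.range 114).all fun i => (List.range 114).all fun j =>
      chk8 (8 * ((i : ℤ) - 57) + 1) (8 * ((j : ℤ) - 57) + 5)) = true := by decide +kernel

theorem chk8_strip :
    ((List.range 2502).all fun i => (List.range 12).all fun j =>
      chk8 (8 * ((i : ℤ) - 1251) + 1) (8 * (j : ℤ) + 5)) = true := by decide +kernel

theorem chk8_apply {a b c n : ℤ} (hc : c = a + 1 - b) (ha : a % 8 = 1) (hb : b % 8 = 5)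
    (hbound : (|a| < 449 ∧ |b| < 449) ∨ (|a| < 10000 ∧ 0 < b ∧ b < 100))
    (heq : (a + 1) * (b * c - 25 * a) * n = 86400 * a * b * c)
    (hden : (a + 1) * (b * c - 25 * a) ≠ 0) (hn : 0 < n) (h840 : 840 ∣ n) (h16 : ¬ 16 ∣ n)
    (hda : a ∣ n) (hdb : b ∣ n) (hdc : c ∣ n) (hsq : a * a + b * b + c * c < n)
    (hx : 14 * 14400 * a * b * c - 25 * n * a * (b + c) - n * b * c * (a + 1) ≠ 0)
    (hxd : 14 * 14400 * a * b * c - 25 * n * a * (b + c) - n * b * c * (a + 1) ∣
      18 * (1 + a) * n * (a * b * c)) :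
    n = 175560 ∨ (n = 189000 ∧ a = -15 ∧ ((b = 21 ∧ c = -35) ∨ (b = -35 ∧ c = 21))) := by
  have hg : 86400 * a * b * c / ((a + 1) * (b * c - 25 * a)) = n := by
    rw [← heq]; exact Int.mul_ediv_cancel_left _ hden
  have hm : 86400 * a * b * c % ((a + 1) * (b * c - 25 * a)) = 0 := by
    rw [← heq]; exact Int.mul_emod_right _ _
  suffices h : chk8 a b = true by
    unfold chk8 at h
    simp only [← hc, hg, hm, Bool.or_eq_true, Bool.not_eq_true', Bool.and_eq_false_iff,
      decide_eq_false_iff_not, decide_eq_true_eq] at h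
    refine h.resolve_left ?_
    have h1 := Int.emod_eq_zero_of_dvd h840
    have h2 : ¬ n % 16 = 0 := fun h => h16 (Int.dvd_of_emod_eq_zero h)
    have h3 := Int.emod_eq_zero_of_dvd hda
    have h4 := Int.emod_eq_zero_of_dvd hdb
    have h5 := Int.emod_eq_zero_of_dvd hdc
    have h6 := Int.emod_eq_zero_of_dvd hxd
    simp [hden, hn, h1, h2, h3, h4, h5, hsq]
    refine ⟨fun h => hx (by linear_combination h), ?_⟩
    rwa [show (201600 : ℤ) = 14 * 14400 by norm_num]
  rcases hbound with ⟨h1, h2⟩ | ⟨h1, h2, h3⟩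
  · rw [abs_lt] at h1 h2
    have hbox := chk8_box
    simp only [List.all_eq_true, List.mem_range] at hbox
    have := hbox ((a - 1) / 8 + 57).toNat (by omega) ((b - 5) / 8 + 57).toNat (by omega)
    rwa [show 8 * (((((a - 1) / 8 + 57).toNat : ℕ) : ℤ) - 57) + 1 = a by omega,
      show 8 * (((((b - 5) / 8 + 57).toNat : ℕ) : ℤ) - 57) + 5 = b by omega] at this
  · rw [abs_lt] at h1
    have hbox := chk8_strip
    simp only [List.all_eq_true, List.mem_range] at hbox
    have := hbox ((a - 1) / 8 + 1251).toNat (by omega) ((b - 5) / 8).toNat (by omega)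
    rwa [show 8 * (((((a - 1) / 8 + 1251).toNat : ℕ) : ℤ) - 1251) + 1 = a by omega,
      show 8 * ((((b - 5) / 8).toNat : ℕ) : ℤ) + 5 = b by omega] at this

/-- Either all three of `a`, `b`, `c` are small or one of `b`, `c` is positive and below one hundred. -/
theorem eight_bounds {a b c n : ℤ} (hbc : b + c = a + 1) (ha : a ≤ -7 ∨ 9 ≤ a) (hb : b ≠ 0) (hc : c ≠ 0)
    (hn : 0 < n) (heq : (a + 1) * (b * c - 25 * a) * n = 86400 * a * b * c)
    (hsq : a * a + b * b + c * c < n) :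
    (|a| < 449 ∧ |b| < 449) ∨ (|a| < 10000 ∧ ((0 < b ∧ b < 100) ∨ (0 < c ∧ c < 100))) := by
  by_cases hsmall : n ≤ 201600
  · left
    constructor <;> rw [abs_lt] <;> constructor <;> nlinarith [sq_nonneg a, sq_nonneg b, sq_nonneg c]
  right
  have hn' : 201600 < n := not_le.1 hsmall
  -- the ratio `bc / a` lies strictly between 25 and 50
  have hr : 25 * (a * a) < b * c * a ∧ b * c * a < 50 * (a * a) := by
    have e : (b * c * a - 25 * (a * a)) * ((a + 1) * a) * n = 86400 * (a * a) * (b * c * a) := by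
      linear_combination (a * a) * heq
    have haa : 0 < (a + 1) * a := by rcases ha with h | h <;> nlinarith
    have h6 : 6 * (a * a) ≤ 7 * ((a + 1) * a) := by rcases ha with h | h <;> nlinarith
    have ha2 : 0 < a * a := by rcases ha with h | h <;> nlinarith
    set R := b * c * a with hR
    set P := (a + 1) * a with hP
    set A := a * a with hA
    have hgt : ∀ X : ℤ, 0 < X → X * (P * 201600) < X * (P * n) := fun X hX =>
      mul_lt_mul_of_pos_left (mul_lt_mul_of_pos_left hn' haa) hX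
    constructor
    · by_contra hle
      push Not at hle
      rcases le_or_gt 0 R with h | h
      · have h1 : (R - 25 * A) * (P * n) ≤ 0 :=
          mul_nonpos_of_nonpos_of_nonneg (by linarith) (by positivity)
        have h2 : 0 ≤ 86400 * A * R := by positivity
        have h3 : R * A = 0 := by nlinarith
        rcases mul_eq_zero.1 h3 with h | h
        · rw [hR] at h
          simp only [mul_eq_zero, hb, hc, false_or] at h
          rw [hA, h] at ha2
          simp at ha2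
        · omega
      · have h1 := hgt (25 * A - R) (by linarith)
        nlinarith [mul_le_mul_of_nonneg_left h6 (by linarith : (0:ℤ) ≤ -R)]
    · by_contra hle
      push Not at hle
      have h1 := hgt (R - 25 * A) (by linarith)
      nlinarith [mul_le_mul_of_nonneg_left h6 (by linarith : (0:ℤ) ≤ R)]
  obtain ⟨hr1, hr2⟩ := hr
  -- a small positive element among `b`, `c`
  obtain ⟨x, y, hx0, hxy, hxy', hprod, hor⟩ : ∃ x y : ℤ, 0 < x ∧ x + y = a + 1 ∧
      (0 < a → x ≤ y) ∧ x * y = b * c ∧ (x = b ∨ x = c) := by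
    rcases ha with h | h
    · have hneg : b * c < 0 := by nlinarith
      rcases lt_or_gt_of_ne hb with hbn | hbp
      · exact ⟨c, b, by nlinarith, by linarith, fun h' => by linarith, mul_comm _ _, Or.inr rfl⟩
      · exact ⟨b, c, hbp, hbc, fun h' => by linarith, rfl, Or.inl rfl⟩
    · have hpos : 0 < b * c := by nlinarith
      rcases lt_or_gt_of_ne hb with hbn | hbp
      · nlinarith
      · rcases le_total b c with hle | hle
        · exact ⟨b, c, hbp, hbc, fun _ => hle, rfl, Or.inl rfl⟩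
        · exact ⟨c, b, by nlinarith, by linarith, fun _ => hle, mul_comm _ _, Or.inr rfl⟩
  rw [← hprod] at hr1 hr2
  have hy : y = a + 1 - x := by linarith
  have hx100 : x < 100 := by
    by_contra hge
    push Not at hge
    rcases ha with h | h
    · have h1 : x * y ≤ 100 * (a + 1 - 100) := by
        nlinarith [mul_nonneg (by linarith : (0:ℤ) ≤ x - 100) (by linarith : (0:ℤ) ≤ 100 - y)]
      have h2 := mul_le_mul_of_nonpos_right h1 (by linarith : a ≤ 0)
      nlinarith
    · have := hxy' (by linarith)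
      have h1 : 100 * (a + 1 - 100) ≤ x * y := by
        nlinarith [mul_nonneg (by linarith : (0:ℤ) ≤ x - 100) (by linarith : (0:ℤ) ≤ y - 100)]
      have h2 := mul_le_mul_of_nonneg_right h1 (by linarith : (0:ℤ) ≤ a)
      nlinarith
  refine ⟨?_, hor.imp (fun e : x = b => e ▸ ⟨hx0, hx100⟩) (fun e : x = c => e ▸ ⟨hx0, hx100⟩)⟩
  by_contra hbig
  push Not at hbig
  rw [hy] at hr1 hr2
  have heq' : (a + 1) * (x * (a + 1 - x) - 25 * a) * n = 86400 * a * x * (a + 1 - x) := by
    rw [← hy, hprod, heq, mul_assoc (86400 * a) x y, hprod, ← mul_assoc]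
  have hn8 : 100000000 < n := by
    nlinarith [sq_abs a, sq_nonneg b, sq_nonneg c]
  rcases ha with h | h
  · have hA : 10000 ≤ -a := by rwa [abs_of_neg (by linarith : a < 0)] at hbig
    have hM : 25 * a > x * (a + 1 - x) := by nlinarith
    by_cases hx25 : x ≤ 25
    · rcases hx25.lt_or_eq with hx24 | rfl
      · have h1 := mul_le_mul_of_nonpos_right (by linarith : x ≤ 24) (by linarith : a ≤ 0)
        have h2 : x * x ≤ 24 * 24 := mul_le_mul (by linarith) (by linarith) (by linarith) (by norm_num)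
        linarith [(by ring : x * (a + 1 - x) = x * a + x - x * x)]
      · have h1 : a * a < n := by nlinarith [sq_nonneg b, sq_nonneg c]
        nlinarith [mul_lt_mul_of_pos_left h1 (by linarith : (0:ℤ) < -a - 1)]
    · push Not at hx25
      have hD : -a ≤ 25 * a - x * (a + 1 - x) := by nlinarith
      have h1 : (-a - 1) * -a * n ≤ (-a - 1) * (25 * a - x * (a + 1 - x)) * n :=
        mul_le_mul_of_nonneg_right (mul_le_mul_of_nonneg_left hD (by linarith)) (by linarith)
      have h2 : x * -(a + 1 - x) ≤ 100 * (-a + 100) :=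
        mul_le_mul hx100.le (by linarith) (by linarith) (by norm_num)
      have h3 := mul_le_mul_of_nonneg_left h2 (by linarith : (0:ℤ) ≤ 86400 * -a)
      nlinarith [mul_lt_mul_of_pos_left hn8 (by nlinarith : (0:ℤ) < (-a - 1) * -a)]
  · have hA : 10000 ≤ a := by rwa [abs_of_pos (by linarith : 0 < a)] at hbig
    have hM : 25 * a < x * (a + 1 - x) := by nlinarith
    by_cases hx25 : x ≤ 25
    · nlinarith [mul_le_mul_of_nonneg_right hx25 (by linarith : (0:ℤ) ≤ a)]
    · push Not at hx25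
      by_cases hD : x * (a + 1 - x) - 25 * a < 1
      · linarith
      · push Not at hD
        have hD' : (x - 25) * a - x * (x - 1) ≤ x * (a + 1 - x) - 25 * a := le_of_eq (by ring)
        have hD'' : a ≤ 2 * (x * (a + 1 - x) - 25 * a) := by
          nlinarith [mul_le_mul_of_nonneg_right (by linarith : (26:ℤ) ≤ x) (by linarith : (0:ℤ) ≤ a),
            mul_nonneg (by linarith : (0:ℤ) ≤ x - 26) (by linarith : (0:ℤ) ≤ 99 - x)]
        have h1 : (a + 1) * a * n ≤ (a + 1) * (2 * (x * (a + 1 - x) - 25 * a)) * n :=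
          mul_le_mul_of_nonneg_right (mul_le_mul_of_nonneg_left hD'' (by linarith)) (by linarith)
        have h2 : x * (a + 1 - x) ≤ 100 * a :=
          mul_le_mul hx100.le (by linarith) (by linarith) (by norm_num)
        have h3 := mul_le_mul_of_nonneg_left h2 (by linarith : (0:ℤ) ≤ 2 * 86400 * a)
        nlinarith [mul_lt_mul_of_pos_left hn8 (by positivity : (0:ℤ) < (a + 1) * a)]

theorem eight_eqs {a b c d d' e e' : ℤ} {n : ℕ} (hn : n ≠ 0)
    (ha : a ≠ 0) (hb : b ≠ 0) (hc : c ≠ 0) (hd : d ≠ 0) (hd' : d' ≠ 0)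
    (l1 : 1 + a + b + c + d + d' + e + e' = 0) (l2 : -1 - a + b + c + d + d' - e - e' = 0)
    (l3 : -1 - a + b + c - d - d' + e + e' = 0)
    (q1 : (1 : ℚ) + 1 / a + 25 * (1 / b + 1 / c) + 9 * (1 / d + 1 / d' + 1 / e + 1 / e') = 14 * (14400 / n))
    (q2 : -(1 : ℚ) - 1 / a + 25 * (1 / b + 1 / c) + 9 * (1 / d + 1 / d' - 1 / e - 1 / e') = -6 * (14400 / n))
    (q3 : -(1 : ℚ) - 1 / a + 25 * (1 / b + 1 / c) + 9 * (-(1 / d) - 1 / d' + 1 / e + 1 / e') =
      -6 * (14400 / n)) :
    b + c = a + 1 ∧ d + d' = -(1 + a) ∧ e + e' = -(1 + a) ∧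
      (a + 1) * (b * c - 25 * a) * n = 86400 * a * b * c ∧
      (14 * 14400 * a * b * c - 25 * n * a * (b + c) - n * b * c * (a + 1)) * (d * d') =
        -(18 * (1 + a) * n * (a * b * c)) := by
  have e1 : b + c = a + 1 := by linarith
  have e2 : d + d' = -(1 + a) := by linarith
  refine ⟨e1, e2, by linarith, ?_, ?_⟩
  · have h6 : (1 : ℚ) + 1 / a - 25 * (1 / b + 1 / c) = 6 * (14400 / n) := by linarith
    have hna : (n : ℚ) ≠ 0 := Nat.cast_ne_zero.2 hn
    have ha' : (a : ℚ) ≠ 0 := Int.cast_ne_zero.2 ha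
    have hb' : (b : ℚ) ≠ 0 := Int.cast_ne_zero.2 hb
    have hc' : (c : ℚ) ≠ 0 := Int.cast_ne_zero.2 hc
    have e1' : (b : ℚ) + c = a + 1 := by exact_mod_cast e1
    field_simp at h6
    refine Int.cast_injective (α := ℚ) ?_
    push_cast
    linear_combination h6 + 25 * (a : ℚ) * n * e1'
  · have h14 : (1 : ℚ) + 1 / a + 25 * (1 / b + 1 / c) + 18 * (1 / d + 1 / d') = 14 * (14400 / n) := by
      linarith
    have hna : (n : ℚ) ≠ 0 := Nat.cast_ne_zero.2 hn
    have ha' : (a : ℚ) ≠ 0 := Int.cast_ne_zero.2 ha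
    have hb' : (b : ℚ) ≠ 0 := Int.cast_ne_zero.2 hb
    have hc' : (c : ℚ) ≠ 0 := Int.cast_ne_zero.2 hc
    have hd1 : (d : ℚ) ≠ 0 := Int.cast_ne_zero.2 hd
    have hd2 : (d' : ℚ) ≠ 0 := Int.cast_ne_zero.2 hd'
    have e2' : (d : ℚ) + d' = -(1 + a) := by exact_mod_cast e2
    field_simp at h14
    refine Int.cast_injective (α := ℚ) ?_
    push_cast
    linear_combination -h14 + 18 * (a : ℚ) * b * c * n * e2'

theorem eight {a b c d d' e e' : ℤ} {n : ℕ} (hn : n ≠ 0) (h840 : 840 ∣ n) (h16 : ¬ 16 ∣ n)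
    (ha : a % 8 = 1) (ha1 : a ≠ 1) (hb : b % 8 = 5) (hc : c % 8 = 5)
    (hd : d % 8 = 3) (hd' : d' % 8 = 3) (he : e % 8 = 3) (he' : e' % 8 = 3)
    (hda : a ∣ (n : ℤ)) (hdb : b ∣ (n : ℤ)) (hdc : c ∣ (n : ℤ)) (hdd : d ∣ (n : ℤ)) (hdd' : d' ∣ (n : ℤ))
    (hde : e ∣ (n : ℤ)) (hde' : e' ∣ (n : ℤ))
    (hsq : a * a + b * b + c * c < (n : ℤ))
    (l1 : 1 + a + b + c + d + d' + e + e' = 0) (l2 : -1 - a + b + c + d + d' - e - e' = 0)
    (l3 : -1 - a + b + c - d - d' + e + e' = 0)
    (q1 : (1 : ℚ) + 1 / a + 25 * (1 / b + 1 / c) + 9 * (1 / d + 1 / d' + 1 / e + 1 / e') = 14 * (14400 / n))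
    (q2 : -(1 : ℚ) - 1 / a + 25 * (1 / b + 1 / c) + 9 * (1 / d + 1 / d' - 1 / e - 1 / e') = -6 * (14400 / n))
    (q3 : -(1 : ℚ) - 1 / a + 25 * (1 / b + 1 / c) + 9 * (-(1 / d) - 1 / d' + 1 / e + 1 / e') =
      -6 * (14400 / n)) :
    n = 175560 ∨ (n = 189000 ∧ ∀ x ∈ [1, a, b, c, d, d', e, e'], x ≠ 125 ∧ x ≠ -125) := by
  obtain ⟨e1, e2, e3, heq, hx⟩ :=
    eight_eqs hn (by omega) (by omega) (by omega) (by omega) (by omega) l1 l2 l3 q1 q2 q3
  have hn0 : (0 : ℤ) < n := by omega
  have h840' : (840 : ℤ) ∣ n := by exact_mod_cast h840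
  have h16' : ¬ (16 : ℤ) ∣ n := by exact_mod_cast h16
  have habc : a * b * c ≠ 0 := by
    simp only [ne_eq, mul_eq_zero]; omega
  have hx0 : 14 * 14400 * a * b * c - 25 * (n : ℤ) * a * (b + c) - n * b * c * (a + 1) ≠ 0 := fun h0 => by
    rw [h0, zero_mul] at hx
    have : 18 * (1 + a) * (n : ℤ) * (a * b * c) ≠ 0 :=
      mul_ne_zero (mul_ne_zero (by omega) (by omega)) habc
    omega
  have hxd : 14 * 14400 * a * b * c - 25 * (n : ℤ) * a * (b + c) - n * b * c * (a + 1) ∣
      18 * (1 + a) * n * (a * b * c) := ⟨-(d * d'), by linear_combination hx⟩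
  have hden : (a + 1) * (b * c - 25 * a) ≠ 0 := fun h0 => by
    rw [h0, zero_mul, mul_assoc, mul_assoc] at heq
    rw [mul_assoc] at habc
    omega
  have hfin : ∀ b c : ℤ, b + c = a + 1 → b % 8 = 5 → b ∣ (n : ℤ) → c ∣ (n : ℤ) →
      a * a + b * b + c * c < (n : ℤ) → (a + 1) * (b * c - 25 * a) * n = 86400 * a * b * c →
      (a + 1) * (b * c - 25 * a) ≠ 0 →
      14 * 14400 * a * b * c - 25 * (n : ℤ) * a * (b + c) - n * b * c * (a + 1) ≠ 0 →
      14 * 14400 * a * b * c - 25 * (n : ℤ) * a * (b + c) - n * b * c * (a + 1) ∣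
        18 * (1 + a) * n * (a * b * c) →
      ((|a| < 449 ∧ |b| < 449) ∨ (|a| < 10000 ∧ 0 < b ∧ b < 100)) →
      (n : ℤ) = 175560 ∨ ((n : ℤ) = 189000 ∧ a = -15 ∧ ((b = 21 ∧ c = -35) ∨ (b = -35 ∧ c = 21))) :=
    fun b c h1 h2 h3 h4 h5 h6 h7 h8 h9 hB =>
      chk8_apply (by omega) ha h2 hB h6 h7 hn0 h840' h16' hda h3 h4 h5 h8 h9
  have key : (n : ℤ) = 175560 ∨ ((n : ℤ) = 189000 ∧ a = -15 ∧ ((b = 21 ∧ c = -35) ∨ (b = -35 ∧ c = 21))) := by
    rcases eight_bounds e1 (by omega) (by omega) (by omega) hn0 heq hsq with h | ⟨h1, h2 | h2⟩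
    · exact hfin b c e1 hb hdb hdc hsq heq hden hx0 hxd (Or.inl h)
    · exact hfin b c e1 hb hdb hdc hsq heq hden hx0 hxd (Or.inr ⟨h1, h2⟩)
    · have hswap : b * c = c * b := mul_comm b c
      have h := hfin c b (by omega) hc hdc hdb (by linarith) (by linear_combination heq)
        (by rwa [hswap] at hden)
        (fun h => hx0 (by linear_combination h))
        (by
          obtain ⟨k, hk⟩ := hxd
          exact ⟨k, by linear_combination hk⟩)
        (Or.inr ⟨h1, h2⟩)
      omega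
  rcases key with h | ⟨h, rfl, hbc⟩
  · left; omega
  right
  refine ⟨by omega, fun x hx' => ?_⟩
  rw [h] at hdd hdd' hde hde'
  simp only [List.mem_cons, List.not_mem_nil, or_false] at hx'
  have h139 : ¬ (139 : ℤ) ∣ 189000 := by decide
  constructor
  · rintro rfl
    omega
  · rintro rfl
    have hE : d ≠ -125 := fun h => h139 (by rwa [show d' = 139 by omega] at hdd')
    have hE' : d' ≠ -125 := fun h => h139 (by rwa [show d = 139 by omega] at hdd)
    have hF : e ≠ -125 := fun h => h139 (by rwa [show e' = 139 by omega] at hde')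
    have hF' : e' ≠ -125 := fun h => h139 (by rwa [show e = 139 by omega] at hde)
    omega

/-- The check for a candidate with four odd rows. -/
def chk4 (j : ℤ) : Bool :=
  let a := 5 + 8 * j
  let num := 1350 * a * (a - 1)
  let g := num / (j * j)
  !(decide (j ≠ 0) && decide (num % (j * j) = 0) && decide (0 < g) && decide (g % 840 = 0) &&
      decide (g % 16 ≠ 0) && decide (g % a = 0) && decide (1 + a * a < g)) ||
    decide ((a = -35 ∧ g = 68040) ∨ (a = 29 ∧ g = 121800))

theorem chk4_box : ((List.range 6751).all fun i => chk4 ((i : ℤ) - 3375)) = true := by decide +kernel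

theorem four_last : ((List.range 100).all fun i =>
    let b := 8 * ((i : ℤ) - 50) + 3
    let e1 := 17 - b
    let e2 := -15 - b
    decide (68040 * (-35 * b * e1 + 25 * b * e1 + 18 * -35 * e1 + 72 * -35 * b) ≠ 201600 * -35 * b * e1) &&
    decide (121800 * (29 * b * e2 + 25 * b * e2 + 18 * 29 * e2 + 72 * 29 * b) ≠ 201600 * 29 * b * e2)) = true := by
  decide +kernel

theorem four {a b c e g : ℤ} {n : ℕ} (hn : n ≠ 0) (h840 : 840 ∣ n) (h16 : ¬ 16 ∣ n)
    (ha : a % 8 = 5) (hb : b % 8 = 3) (hc : c % 8 = 3) (he : e % 8 = 6) (hg : g ≠ 0)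
    (hda : a ∣ (n : ℤ)) (hsq : 1 + a * a < (n : ℤ)) (hsqb : b * b < (n : ℤ))
    (l1 : 1 + a + b + c + 2 * e = 0) (l2 : -1 + a + b - c + 2 * g = 0) (l3 : -1 + a - b + c + 2 * g = 0)
    (q1 : (1 : ℚ) + 25 / a + 9 / b + 9 / c + 72 / e = 14 * (14400 / n))
    (q2 : -(1 : ℚ) + 25 / a + 9 / b - 9 / c + 8 / g = -6 * (14400 / n)) : False := by
  obtain rfl : b = c := by omega
  have hna : (n : ℚ) ≠ 0 := Nat.cast_ne_zero.2 hn
  have ha' : (a : ℚ) ≠ 0 := Int.cast_ne_zero.2 (by omega)
  have hb' : (b : ℚ) ≠ 0 := Int.cast_ne_zero.2 (by omega)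
  have he' : (e : ℚ) ≠ 0 := Int.cast_ne_zero.2 (by omega)
  have hg' : (g : ℚ) ≠ 0 := Int.cast_ne_zero.2 hg
  have eq1 : (a - 5) * (a - 5) * (n : ℤ) = 86400 * a * (a - 1) := by
    have h : -(1 : ℚ) + 25 / a + 8 / g = -6 * (14400 / n) := by linarith
    field_simp at h
    have hg2 : (g : ℚ) * 2 = 1 - a := by exact_mod_cast (show g * 2 = 1 - a by omega)
    refine Int.cast_injective (α := ℚ) ?_
    push_cast
    linear_combination (2 : ℚ) * h - (-(a : ℚ) * n + 25 * n + 86400 * a) * hg2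
  obtain ⟨j, rfl⟩ : ∃ j, a = 5 + 8 * j := ⟨(a - 5) / 8, by omega⟩
  have eq2 : j * j * (n : ℤ) = 1350 * (5 + 8 * j) * (5 + 8 * j - 1) := by linarith
  have hj : j ≠ 0 := by rintro rfl; omega
  obtain ⟨k, hk⟩ : (8 : ℤ) ∣ n := dvd_trans (by norm_num) (Int.natCast_dvd_natCast.2 h840)
  have hkodd : ¬ 2 ∣ k := fun ⟨l, hl⟩ => h16 (Int.natCast_dvd_natCast.1 ⟨l, by omega⟩)
  have hjdvd : j ∣ 3375 := by
    have h1 : j * j * k = 3375 + 12150 * j + 10800 * (j * j) := by
      rw [hk] at eq2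
      refine mul_left_cancel₀ (show (8 : ℤ) ≠ 0 by norm_num) ?_
      linear_combination eq2
    exact ⟨j * k - 12150 - 10800 * j, by linarith⟩
  have hjb : -3375 ≤ j ∧ j ≤ 3375 := by
    have h1 := Int.le_of_dvd (by norm_num) hjdvd
    have h2 := Int.le_of_dvd (by norm_num) ((Int.neg_dvd (a := j)).2 hjdvd)
    omega
  have hg4 : (n : ℤ) = 1350 * (5 + 8 * j) * (5 + 8 * j - 1) / (j * j) := by
    rw [← eq2, Int.mul_ediv_cancel_left _ (mul_ne_zero hj hj)]
  have hm : 1350 * (5 + 8 * j) * (5 + 8 * j - 1) % (j * j) = 0 := by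
    rw [← eq2]; exact Int.mul_emod_right _ _
  have hcases : (5 + 8 * j = -35 ∧ (n : ℤ) = 68040) ∨ (5 + 8 * j = 29 ∧ (n : ℤ) = 121800) := by
    have hbox := chk4_box
    simp only [List.all_eq_true, List.mem_range] at hbox
    have h := hbox (j + 3375).toNat (by omega)
    rw [show (((j + 3375).toNat : ℕ) : ℤ) - 3375 = j by omega] at h
    unfold chk4 at h
    simp only [← hg4, hm, Bool.or_eq_true, Bool.not_eq_true', Bool.and_eq_false_iff,
      decide_eq_false_iff_not, decide_eq_true_eq] at h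
    refine h.resolve_left ?_
    have h1 : (n : ℤ) % 840 = 0 := Int.emod_eq_zero_of_dvd (Int.natCast_dvd_natCast.2 h840)
    have h2 : ¬ (n : ℤ) % 16 = 0 := fun h => h16 (Int.natCast_dvd_natCast.1 (Int.dvd_of_emod_eq_zero h))
    have h3 := Int.emod_eq_zero_of_dvd hda
    simp [hj, h1, h2, h3, hsq, Nat.pos_of_ne_zero hn]
  have h14 : (1 : ℚ) + 25 / (5 + 8 * j : ℤ) + 18 / b + 72 / e = 14 * (14400 / n) := by
    rw [← q1]; ring
  field_simp at h14
  have h14' : (n : ℤ) * ((5 + 8 * j) * b * e + 25 * b * e + 18 * (5 + 8 * j) * e + 72 * (5 + 8 * j) * b) =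
      201600 * (5 + 8 * j) * b * e := by
    refine Int.cast_injective (α := ℚ) ?_
    push_cast at h14 ⊢
    linear_combination h14
  have hb2 : -397 ≤ b ∧ b ≤ 395 := by
    have hn4 : (n : ℤ) ≤ 121800 := by omega
    constructor <;> nlinarith
  have hlast := four_last
  simp only [List.all_eq_true, List.mem_range, Bool.and_eq_true, decide_eq_true_eq] at hlast
  obtain ⟨hA, hB⟩ := hlast ((b - 3) / 8 + 50).toNat (by omega)
  rw [show 8 * (((((b - 3) / 8 + 50).toNat : ℕ) : ℤ) - 50) + 3 = b by omega] at hA hB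
  rcases hcases with ⟨h, h'⟩ | ⟨h, h'⟩
  · rw [h', h, show e = 17 - b by omega] at h14'
    exact hA h14'
  · rw [h', h, show e = -15 - b by omega] at h14'
    exact hB h14'

end Cfsg.Agent.JankoOne
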