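import Cfsg.Agent.Lib.JankoOne.Table
import Cfsg.Agent.Lib.JankoOne.Arith
import Mathlib.Algebra.BigOperators.Group.Finset.Piecewise
import Mathlib.Algebra.Order.BigOperators.Group.Finset

/-!
The rows of the table: the two rows of defect one, the four or eight odd rows and their patterns.
-/

set_option autoImplicit false
set_option linter.unusedSectionVars false
set_option maxHeartbeats 800000

namespace Cfsg.Agent.JankoOne

variable {I : Type*} [Fintype I] [DecidableEq I] {n : ℕ} {o : I} {d u v w e : I → ℤ}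

theorem abs_le_one_of_sq {x : ℤ} (hx : x * x ≤ 3) : x = 0 ∨ x = 1 ∨ x = -1 := by
  have h1 : -1 ≤ x := by nlinarith
  have h2 : x ≤ 1 := by nlinarith
  omega

theorem abs_le_two_of_sq {x : ℤ} (hx : x * x ≤ 8) : -2 ≤ x ∧ x ≤ 2 := by
  constructor <;> nlinarith

theorem mod_eight {D k : ℤ} (h : 8 ∣ D - k) : D % 8 = k % 8 := by omega

theorem ne_of_sign {D x : ℤ} (hD : D = x ∨ D = -x) (h : D ≠ 125 ∧ D ≠ -125) : x ≠ 125 := by omega

/-- A column of the table other than the one of defect one. -/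
structure Col (o : I) (d u f : I → ℤ) : Prop where
  par : ∀ i, 2 ∣ u i - f i
  norm : ∑ i, f i * f i = 8
  deg : ∑ i, d i * f i = 0
  dne : ∀ i, d i ≠ 0
  odd_o : u o = 1

/-- The odd rows. -/
def oddRows (u : I → ℤ) : Finset I := Finset.univ.filter fun i => ¬ 2 ∣ u i

/-- The even non-zero rows of a column. -/
def evRows (u f : I → ℤ) : Finset I := Finset.univ.filter fun i => 2 ∣ u i ∧ f i ≠ 0

namespace Col

variable {f g : I → ℤ} (hf : Col o d u f)

include hf

theorem mem_o : o ∈ oddRows u := by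
  simp [oddRows, hf.odd_o]

theorem le_two (i : I) : -2 ≤ f i ∧ f i ≤ 2 := by
  refine abs_le_two_of_sq ?_
  have := Finset.single_le_sum (f := fun j => f j * f j) (fun j _ => mul_self_nonneg _) (Finset.mem_univ i)
  have h := hf.norm
  omega

theorem odd_val {i : I} (hi : i ∈ oddRows u) : f i = 1 ∨ f i = -1 := by
  have h1 := (Finset.mem_filter.1 hi).2
  have h2 := hf.le_two i
  have h3 := hf.par i
  omega

theorem even_val {i : I} (hi : i ∈ evRows u f) : f i = 2 ∨ f i = -2 := by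
  have h1 := (Finset.mem_filter.1 hi).2
  have h2 := hf.le_two i
  have h3 := hf.par i
  omega

theorem zero_off {i : I} (h1 : i ∉ oddRows u) (h2 : i ∉ evRows u f) : f i = 0 := by
  have h3 : 2 ∣ u i := by
    by_contra h
    exact h1 (Finset.mem_filter.2 ⟨Finset.mem_univ _, h⟩)
  by_contra h
  exact h2 (Finset.mem_filter.2 ⟨Finset.mem_univ _, h3, h⟩)

theorem sum_mul (k : I → ℤ) :
    ∑ i, f i * k i = (∑ i ∈ oddRows u, f i * k i) + ∑ i ∈ evRows u f, f i * k i := by
  have hdis : Disjoint (oddRows u) (evRows u f) := Finset.disjoint_left.2 fun i hi hi' =>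
    (Finset.mem_filter.1 hi).2 (Finset.mem_filter.1 hi').2.1
  rw [← Finset.sum_union hdis]
  refine (Finset.sum_subset (Finset.subset_univ _) fun i _ hi => ?_).symm
  rw [Finset.mem_union, not_or] at hi
  rw [hf.zero_off hi.1 hi.2, zero_mul]

theorem count : ((oddRows u).card : ℤ) + 4 * ((evRows u f).card : ℤ) = 8 := by
  rw [← hf.norm, hf.sum_mul f, Finset.cast_card, Finset.cast_card, Finset.mul_sum]
  refine congrArg₂ (· + ·) (Finset.sum_congr rfl fun i hi => ?_) (Finset.sum_congr rfl fun i hi => ?_)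
  · rcases hf.odd_val hi with h | h <;> rw [h] <;> norm_num
  · rcases hf.even_val hi with h | h <;> rw [h] <;> norm_num

theorem not_shared (hg : Col o d u g) (hk : (oddRows u).card = 4) {j : I}
    (hj : evRows u f = {j}) (hj' : evRows u g = {j}) : ∑ i, f i * g i ≠ 0 := by
  intro h0
  rw [hf.sum_mul g, hj, Finset.sum_singleton] at h0
  have hfj := hf.even_val (hj ▸ Finset.mem_singleton_self j)
  have hgj := hg.even_val (hj' ▸ Finset.mem_singleton_self j)
  have hb : ∀ i ∈ oddRows u, -1 ≤ f i * g i ∧ f i * g i ≤ 1 := fun i hi => by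
    rcases hf.odd_val hi with h | h <;> rcases hg.odd_val hi with h' | h' <;> rw [h, h'] <;> norm_num
  have hd := hf.deg
  have hd' := hg.deg
  simp only [mul_comm (d _)] at hd hd'
  rw [hf.sum_mul d, hj, Finset.sum_singleton] at hd
  rw [hg.sum_mul d, hj', Finset.sum_singleton] at hd'
  have hdj := hf.dne j
  rcases (show f j * g j = 4 ∨ f j * g j = -4 by
    rcases hfj with h | h <;> rcases hgj with h' | h' <;> rw [h, h'] <;> norm_num) with h4 | h4
  · have he : ∑ i ∈ oddRows u, f i * g i = ∑ i ∈ oddRows u, (-1 : ℤ) := by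
      rw [Finset.sum_const, hk, nsmul_eq_mul]; omega
    have he' := (Finset.sum_eq_sum_iff_of_le fun i hi => (hb i hi).1).1 he.symm
    have hs : ∑ i ∈ oddRows u, g i * d i = -∑ i ∈ oddRows u, f i * d i := by
      rw [← Finset.sum_neg_distrib]
      refine Finset.sum_congr rfl fun i hi => ?_
      have h := he' i hi
      have hgi : g i = -f i := by rcases hf.odd_val hi with h1 | h1 <;> rw [h1] at h ⊢ <;> omega
      rw [hgi]; ring
    rw [hs] at hd'
    rcases hfj with h | h <;> rcases hgj with h' | h' <;> rw [h] at hd h4 <;> rw [h'] at hd' h4 <;> omega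
  · have he : ∑ i ∈ oddRows u, f i * g i = ∑ i ∈ oddRows u, (1 : ℤ) := by
      rw [Finset.sum_const, hk, nsmul_eq_mul]; omega
    have he' := (Finset.sum_eq_sum_iff_of_le fun i hi => (hb i hi).2).1 he
    have hs : ∑ i ∈ oddRows u, g i * d i = ∑ i ∈ oddRows u, f i * d i := by
      refine Finset.sum_congr rfl fun i hi => ?_
      have h := he' i hi
      have hgi : g i = f i := by rcases hf.odd_val hi with h1 | h1 <;> rw [h1] at h ⊢ <;> omega
      rw [hgi]
    rw [hs] at hd'
    rcases hfj with h | h <;> rcases hgj with h' | h' <;> rw [h] at hd h4 <;> rw [h'] at hd' h4 <;> omega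

end Col

/-- The odd rows with the given pattern of signs relative to the first column. -/
def patRows (u v w : I → ℤ) (s t : ℤ) : Finset I :=
  (oddRows u).filter fun i => u i * v i = s ∧ u i * w i = t

namespace Table

variable (h : Table n o d u v w e)

include h

theorem colU : Col o d u u := ⟨fun i => by simp, h.uu, h.du, fun i => (h.dpos i).ne', h.u_o⟩

theorem colV : Col o d u v := ⟨h.parv, h.vv, h.dv, fun i => (h.dpos i).ne', h.u_o⟩

theorem colW : Col o d u w := ⟨h.parw, h.ww, h.dw, fun i => (h.dpos i).ne', h.u_o⟩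

theorem defect : ∃ p : I, e p ≠ 0 ∧ ∀ i, e i ≠ 0 → u i = 0 ∧ v i = 0 ∧ w i = 0 := by
  set S := Finset.univ.filter (fun i => e i ≠ 0) with hS
  have hb : ∀ i, e i = 0 ∨ e i = 1 ∨ e i = -1 := fun i => by
    refine abs_le_one_of_sq ?_
    have := Finset.single_le_sum (f := fun j => e j * e j) (fun j _ => mul_self_nonneg _) (Finset.mem_univ i)
    have h' := h.ee
    omega
  have hsum : ∀ k : I → ℤ, ∑ i, k i * e i = ∑ i ∈ S, k i * e i := fun k =>
    (Finset.sum_subset (Finset.subset_univ _) fun i _ hi => by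
      simp only [hS, Finset.mem_filter, Finset.mem_univ, true_and, ne_eq, not_not] at hi
      rw [hi, mul_zero]).symm
  have hcard : S.card = 2 := by
    have h1 := h.ee
    rw [hsum e, Finset.sum_congr rfl fun i hi => (show e i * e i = 1 by
      rcases hb i with h | h | h
      · exact absurd h (Finset.mem_filter.1 hi).2
      all_goals rw [h]; norm_num), Finset.sum_const, nsmul_eq_mul, mul_one] at h1
    exact_mod_cast h1
  obtain ⟨p, q, hpq, hSpq⟩ := Finset.card_eq_two.1 hcard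
  have hpe : e p = 1 ∨ e p = -1 := (hb p).resolve_left
    (Finset.mem_filter.1 (hSpq ▸ Finset.mem_insert_self p {q} : p ∈ S)).2
  have hqe : e q = 1 ∨ e q = -1 := (hb q).resolve_left
    (Finset.mem_filter.1 (hSpq ▸ Finset.mem_insert_of_mem (Finset.mem_singleton_self q) : q ∈ S)).2
  have hdd := h.de
  have hue := h.ue
  have hve := h.ve
  have hwe := h.we
  rw [hsum, hSpq, Finset.sum_pair hpq] at hdd hue hve hwe
  have hdp := h.dpos p
  have hdq := h.dpos q
  have hflip : e q = -e p ∧ d q = d p := by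
    rcases hpe with h1 | h1 <;> rcases hqe with h2 | h2 <;> rw [h1, h2] at hdd ⊢ <;> omega
  have hsame : u q = u p ∧ v q = v p ∧ w q = w p := by
    rw [hflip.1] at hue hve hwe
    rcases hpe with h1 | h1 <;> rw [h1] at hue hve hwe <;> omega
  have hte := h.te
  rw [← Finset.sum_subset (Finset.subset_univ S) (fun i _ hi => by
    simp only [hS, Finset.mem_filter, Finset.mem_univ, true_and, ne_eq, not_not] at hi
    simp [hi]), hSpq, Finset.sum_pair hpq] at hte
  rw [hflip.1, hflip.2, hsame.1, hsame.2.1, hsame.2.2] at hte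
  have ha : 3 * u p + v p + w p = 0 := by
    have hd0 : (d p : ℚ) ≠ 0 := Int.cast_ne_zero.2 hdp.ne'
    field_simp at hte
    have : ((3 * u p + v p + w p : ℤ) : ℚ) * 16 * ((e p * e p : ℤ) : ℚ) = 0 := by
      push_cast at hte ⊢
      linear_combination hte
    rcases hpe with h1 | h1 <;> rw [h1] at this <;> push_cast at this <;>
      exact_mod_cast (by push_cast; linarith : ((3 * u p + v p + w p : ℤ) : ℚ) = ((0 : ℤ) : ℚ))
  have hop : o ≠ p := fun h' => by
    have h0 := h.e_o
    rw [h'] at h0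
    omega
  have hoq : o ≠ q := fun h' => by
    have h0 := h.e_o
    rw [h'] at h0
    omega
  have hsmall : ∀ (f : I → ℤ), ∑ i, f i * f i = 8 → f o * f o = 1 → f q = f p →
      f p = 0 ∨ f p = 1 ∨ f p = -1 := by
    intro f h8 ho hq
    refine abs_le_one_of_sq ?_
    have h' := Finset.sum_le_sum_of_subset_of_nonneg (f := fun j => f j * f j)
      (Finset.subset_univ {o, p, q}) (fun j _ _ => mul_self_nonneg _)
    rw [Finset.sum_insert (by simp [hop, hoq]), Finset.sum_pair hpq, h8, ho, hq] at h'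
    omega
  have hu := hsmall u h.uu (by rw [h.u_o]; norm_num) hsame.1
  have hv := hsmall v h.vv (by rw [h.v_o]; norm_num) hsame.2.1
  have hw := hsmall w h.ww (by rw [h.w_o]; norm_num) hsame.2.2
  have hpv := h.parv p
  have hpw := h.parw p
  refine ⟨p, by omega, fun i hi => ?_⟩
  have : i ∈ S := Finset.mem_filter.2 ⟨Finset.mem_univ _, hi⟩
  rw [hSpq, Finset.mem_insert, Finset.mem_singleton] at this
  rcases this with rfl | rfl <;> omega

theorem pat_card (hV : ∑ i ∈ oddRows u, u i * v i = 0) (hW : ∑ i ∈ oddRows u, u i * w i = 0)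
    (hVW : ∑ i ∈ oddRows u, v i * w i = 0) {s t : ℤ} (hs : s = 1 ∨ s = -1) (ht : t = 1 ∨ t = -1) :
    4 * ((patRows u v w s t).card : ℤ) = (oddRows u).card := by
  have key : ∀ i ∈ oddRows u, (if u i * v i = s ∧ u i * w i = t then (4 : ℤ) else 0) =
      1 + s * (u i * v i) + t * (u i * w i) + s * t * (v i * w i) := fun i hi => by
    rcases h.colU.odd_val hi with h1 | h1 <;> rcases h.colV.odd_val hi with h2 | h2 <;>
      rcases h.colW.odd_val hi with h3 | h3 <;> rcases hs with rfl | rfl <;> rcases ht with rfl | rfl <;>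
      rw [h1, h2, h3] <;> norm_num
  have := Finset.sum_congr rfl key
  rw [← Finset.sum_filter, Finset.sum_const, Finset.sum_add_distrib, Finset.sum_add_distrib,
    Finset.sum_add_distrib, ← Finset.mul_sum, ← Finset.mul_sum, ← Finset.mul_sum, hV, hW, hVW,
    Finset.sum_const, nsmul_eq_mul, nsmul_eq_mul] at this
  unfold patRows
  linarith

theorem pat_split {A : Type*} [AddCommMonoid A] (k : I → A) :
    ∑ i ∈ oddRows u, k i = (∑ i ∈ patRows u v w (-1) (-1), k i) + (∑ i ∈ patRows u v w 1 1, k i) +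
      (∑ i ∈ patRows u v w 1 (-1), k i) + ∑ i ∈ patRows u v w (-1) 1, k i := by
  simp only [patRows, Finset.sum_filter, ← Finset.sum_add_distrib]
  refine Finset.sum_congr rfl fun i hi => ?_
  rcases h.colU.odd_val hi with h1 | h1 <;> rcases h.colV.odd_val hi with h2 | h2 <;>
    rcases h.colW.odd_val hi with h3 | h3 <;> simp [h1, h2, h3]

theorem pat_cases {i : I} (hi : i ∈ oddRows u) : i ∈ patRows u v w (-1) (-1) ∨ i ∈ patRows u v w 1 1 ∨
    i ∈ patRows u v w 1 (-1) ∨ i ∈ patRows u v w (-1) 1 := by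
  simp only [patRows, Finset.mem_filter, hi, true_and]
  rcases h.colU.odd_val hi with h1 | h1 <;> rcases h.colV.odd_val hi with h2 | h2 <;>
    rcases h.colW.odd_val hi with h3 | h3 <;> simp [h1, h2, h3]

theorem e_zero {i : I} (hi : u i ≠ 0 ∨ v i ≠ 0 ∨ w i ≠ 0) : e i = 0 := by
  obtain ⟨p, -, hp⟩ := h.defect
  by_contra h0
  obtain ⟨a, b, c⟩ := hp i h0
  omega

theorem at_pat {i : I} {s t : ℤ} (hi : i ∈ patRows u v w s t) : ∃ D : ℤ,
    u i * d i = D ∧ v i * d i = s * D ∧ w i * d i = t * D ∧ (D = d i ∨ D = -d i) ∧ D ≠ 0 ∧ D ∣ (n : ℤ) ∧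
    D * D = d i ^ 2 ∧ 8 ∣ D - (3 + s + t) ∧
    ((3 * u i + v i + w i + 4 * e i) ^ 2 * u i : ℚ) / d i = (3 + s + t : ℤ) ^ 2 / (D : ℚ) ∧
    ((3 * u i + v i + w i + 4 * e i) ^ 2 * v i : ℚ) / d i = s * ((3 + s + t : ℤ) ^ 2 / (D : ℚ)) ∧
    ((3 * u i + v i + w i + 4 * e i) ^ 2 * w i : ℚ) / d i = t * ((3 + s + t : ℤ) ^ 2 / (D : ℚ)) := by
  obtain ⟨hiO, hs, ht⟩ := Finset.mem_filter.1 hi
  have hd := h.dpos i
  have hdn := h.ddvd i
  have hc := h.cong i
  have hu := h.colU.odd_val hiO
  have he : e i = 0 := h.e_zero (Or.inl (by omega))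
  refine ⟨u i * d i, rfl, ?_, ?_, ?_, ?_, ?_, ?_, ?_, ?_, ?_, ?_⟩
  all_goals subst hs; subst ht
  all_goals rcases hu with h1 | h1 <;> simp only [h1, he] at hc ⊢
  all_goals first
    | omega
    | exact hdn
    | simpa using hdn
    | ring1
    | (push_cast; ring1)
    | skip

/-- The nine quantities carried by the odd rows. -/
theorem pat_sum {s t : ℤ} {i : I} {D : ℤ} (hD : u i * d i = D) (hV : v i * d i = s * D)
    (hW : w i * d i = t * D) : d i * u i = D ∧ d i * v i = s * D ∧ d i * w i = t * D :=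
  ⟨by rw [mul_comm, hD], by rw [mul_comm, hV], by rw [mul_comm, hW]⟩

theorem sq_lt {s : Finset I} (hs : ∀ i ∈ s, e i = 0) : ∑ i ∈ s, d i ^ 2 < (n : ℤ) := by
  obtain ⟨p, hp, -⟩ := h.defect
  have hps : p ∉ s := fun hps => hp (hs p hps)
  have h' := Finset.sum_le_sum_of_subset_of_nonneg (f := fun j => d j ^ 2)
    (Finset.subset_univ (insert p s)) (fun j _ _ => sq_nonneg _)
  rw [Finset.sum_insert hps, h.dsq] at h'
  have := pow_pos (h.dpos p) 2
  linarith

theorem trivial_pat : o ∈ patRows u v w (-1) (-1) :=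
  Finset.mem_filter.2 ⟨h.colU.mem_o, by rw [h.u_o, h.v_o]; norm_num, by rw [h.u_o, h.w_o]; norm_num⟩

theorem sum_zero_off {A : Type*} [AddCommMonoid A] (k : I → A) {s : Finset I}
    (hk : ∀ i, i ∉ s → k i = 0) : ∑ i, k i = ∑ i ∈ s, k i :=
  (Finset.sum_subset (Finset.subset_univ _) fun i _ hi => hk i hi).symm

theorem eight_case (h840 : 840 ∣ n) (h16 : ¬ 16 ∣ n) (h8 : (oddRows u).card = 8) :
    n = 175560 ∨ (n = 189000 ∧ ∀ i, d i ≠ 125) := by
  have hev : ∀ {f : I → ℤ}, Col o d u f → ∀ i, i ∉ oddRows u → f i = 0 := fun hf i hi => by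
    refine hf.zero_off hi fun hi' => ?_
    have := hf.count
    have := Finset.card_pos.2 ⟨i, hi'⟩
    omega
  have hpair : ∀ {f g : I → ℤ}, Col o d u f → ∑ i, f i * g i = 0 → ∑ i ∈ oddRows u, f i * g i = 0 :=
    fun {f g} hf h0 => by
      rw [← h0]
      exact (h.sum_zero_off _ fun i hi => by rw [hev hf i hi, zero_mul]).symm
  have hc2 : ∀ {s t : ℤ}, (s = 1 ∨ s = -1) → (t = 1 ∨ t = -1) → (patRows u v w s t).card = 2 :=
    fun hs ht => by
      have := h.pat_card (hpair h.colU h.uv) (hpair h.colU h.uw) (hpair h.colV h.vw) hs ht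
      omega
  -- name the eight rows
  obtain ⟨r0, r1, hr01, hP0⟩ := Finset.card_eq_two.1 (hc2 (s := -1) (t := -1) (by simp) (by simp))
  obtain ⟨r, hro, hP0'⟩ : ∃ r, r ≠ o ∧ patRows u v w (-1) (-1) = {o, r} := by
    have ho := h.trivial_pat
    rw [hP0, Finset.mem_insert, Finset.mem_singleton] at ho
    rcases ho with h0 | h0
    · exact ⟨r1, h0 ▸ hr01.symm, h0 ▸ hP0⟩
    · exact ⟨r0, h0 ▸ hr01, by rw [hP0, h0, Finset.pair_comm]⟩
  obtain ⟨rb, rc, hbc, hP1⟩ := Finset.card_eq_two.1 (hc2 (s := 1) (t := 1) (by simp) (by simp))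
  obtain ⟨rd, rd', hdd, hP2⟩ := Finset.card_eq_two.1 (hc2 (s := 1) (t := -1) (by simp) (by simp))
  obtain ⟨re, re', hee, hP3⟩ := Finset.card_eq_two.1 (hc2 (s := -1) (t := 1) (by simp) (by simp))
  have hm := fun {i : I} {s t : ℤ} (hi : i ∈ patRows u v w s t) => h.at_pat hi
  obtain ⟨a, au, av, aw, aabs, a0, adv, asq, amod, aqu, aqv, aqw⟩ :=
    hm (hP0' ▸ Finset.mem_insert_of_mem (Finset.mem_singleton_self r) : r ∈ _)
  obtain ⟨b, bu, bv, bw, babs, b0, bdv, bsq, bmod, bqu, bqv, bqw⟩ :=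
    hm (hP1 ▸ Finset.mem_insert_self rb {rc} : rb ∈ _)
  obtain ⟨c, cu, cv, cw, cabs, c0, cdv, csq, cmod, cqu, cqv, cqw⟩ :=
    hm (hP1 ▸ Finset.mem_insert_of_mem (Finset.mem_singleton_self rc) : rc ∈ _)
  obtain ⟨p, pu, pv, pw, pabs, p0, pdv, psq, pmod, pqu, pqv, pqw⟩ :=
    hm (hP2 ▸ Finset.mem_insert_self rd {rd'} : rd ∈ _)
  obtain ⟨p', p'u, p'v, p'w, p'abs, p'0, p'dv, p'sq, p'mod, p'qu, p'qv, p'qw⟩ :=
    hm (hP2 ▸ Finset.mem_insert_of_mem (Finset.mem_singleton_self rd') : rd' ∈ _)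
  obtain ⟨q, qu, qv, qw, qabs, q0, qdv, qsq, qmod, qqu, qqv, qqw⟩ :=
    hm (hP3 ▸ Finset.mem_insert_self re {re'} : re ∈ _)
  obtain ⟨q', q'u, q'v, q'w, q'abs, q'0, q'dv, q'sq, q'mod, q'qu, q'qv, q'qw⟩ :=
    hm (hP3 ▸ Finset.mem_insert_of_mem (Finset.mem_singleton_self re') : re' ∈ _)
  obtain ⟨one, ou, ov, ow, -, -, -, -, -, oqu, oqv, oqw⟩ := hm h.trivial_pat
  obtain rfl : one = 1 := by rw [← ou, h.u_o, h.d_o]; norm_num
  have split : ∀ {A : Type} [AddCommMonoid A] (k : I → A), (∀ i, i ∉ oddRows u → k i = 0) →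
      ∑ i, k i = (k o + k r) + (k rb + k rc) + (k rd + k rd') + (k re + k re') := by
    intro A _ k hk
    rw [h.sum_zero_off k hk, h.pat_split k, hP0', hP1, hP2, hP3, Finset.sum_pair hro.symm,
      Finset.sum_pair hbc, Finset.sum_pair hdd, Finset.sum_pair hee]
  have l1 := h.du
  have l2 := h.dv
  have l3 := h.dw
  rw [split _ fun i hi => by rw [hev h.colU i hi, mul_zero]] at l1
  rw [split _ fun i hi => by rw [hev h.colV i hi, mul_zero]] at l2
  rw [split _ fun i hi => by rw [hev h.colW i hi, mul_zero]] at l3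
  simp only [mul_comm (d _)] at l1 l2 l3
  rw [ou, au, bu, cu, pu, p'u, qu, q'u] at l1
  rw [ov, av, bv, cv, pv, p'v, qv, q'v] at l2
  rw [ow, aw, bw, cw, pw, p'w, qw, q'w] at l3
  have q1 := h.tu
  have q2 := h.tv
  have q3 := h.tw
  rw [split _ fun i hi => by rw [hev h.colU i hi]; simp] at q1
  rw [split _ fun i hi => by rw [hev h.colV i hi]; simp] at q2
  rw [split _ fun i hi => by rw [hev h.colW i hi]; simp] at q3
  rw [oqu, aqu, bqu, cqu, pqu, p'qu, qqu, q'qu] at q1
  rw [oqv, aqv, bqv, cqv, pqv, p'qv, qqv, q'qv] at q2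
  rw [oqw, aqw, bqw, cqw, pqw, p'qw, qqw, q'qw] at q3
  norm_num at q1 q2 q3
  have hsq : a * a + b * b + c * c < (n : ℤ) := by
    have h1 := h.sq_lt (s := oddRows u) fun i hi => h.e_zero (Or.inl (by
      have := h.colU.odd_val hi; omega))
    rw [h.pat_split, hP0', hP1, hP2, hP3, Finset.sum_pair hro.symm, Finset.sum_pair hbc,
      Finset.sum_pair hdd, Finset.sum_pair hee, ← asq, ← bsq, ← csq, ← psq, ← p'sq, ← qsq, ← q'sq] at h1
    rw [h.d_o] at h1
    linarith [mul_self_nonneg p, mul_self_nonneg p', mul_self_nonneg q, mul_self_nonneg q']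
  have hr1 : a ≠ 1 := fun h1 => hro (h.lin r (by
    rcases aabs with e1 | e1
    · exact e1.symm.trans h1
    · linarith [h.dpos r]))
  rcases eight (d := p) (d' := p') (e := q) (e' := q') (by rintro rfl; exact h16 (dvd_zero _) : n ≠ 0)
    h840 h16 (mod_eight amod) hr1 (mod_eight bmod) (mod_eight cmod) (mod_eight pmod) (mod_eight p'mod)
    (mod_eight qmod) (mod_eight q'mod) adv bdv cdv pdv p'dv qdv q'dv hsq
    (by linarith) (by linarith) (by linarith)
    (by linear_combination q1) (by linear_combination q2) (by linear_combination q3) with hn | ⟨hn, hall⟩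
  · exact Or.inl hn
  refine Or.inr ⟨hn, fun i hi => ?_⟩
  have hiO : i ∈ oddRows u := by
    refine Finset.mem_filter.2 ⟨Finset.mem_univ _, ?_⟩
    have := h.cong i
    have := h.parv i
    have := h.parw i
    clear aabs babs cabs pabs p'abs qabs q'abs
    omega
  simp only [List.mem_cons, List.not_mem_nil, or_false, forall_eq_or_imp, forall_eq] at hall
  obtain ⟨-, ha', hb', hc', hp', hp'', hq', hq''⟩ := hall
  rcases h.pat_cases hiO with hi' | hi' | hi' | hi'
  all_goals simp only [hP0', hP1, hP2, hP3, Finset.mem_insert, Finset.mem_singleton] at hi'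
  all_goals rcases hi' with rfl | rfl
  · rw [h.d_o] at hi; exact absurd hi (by norm_num)
  exacts [ne_of_sign aabs ha' hi, ne_of_sign babs hb' hi, ne_of_sign cabs hc' hi, ne_of_sign pabs hp' hi,
    ne_of_sign p'abs hp'' hi, ne_of_sign qabs hq' hi, ne_of_sign q'abs hq'' hi]

theorem four_case (h840 : 840 ∣ n) (h16 : ¬ 16 ∣ n) (h4 : (oddRows u).card = 4) : False := by
  have hone : ∀ {f : I → ℤ}, Col o d u f → ∃ j, evRows u f = {j} := fun hf => by
    refine Finset.card_eq_one.1 ?_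
    have := hf.count
    omega
  obtain ⟨ju, hju⟩ := hone h.colU
  obtain ⟨jv, hjv⟩ := hone h.colV
  obtain ⟨jw, hjw⟩ := hone h.colW
  have huv : ju ≠ jv := fun he => h.colU.not_shared h.colV h4 hju (he ▸ hjv) h.uv
  have huw : ju ≠ jw := fun he => h.colU.not_shared h.colW h4 hju (he ▸ hjw) h.uw
  have hvw : jv ≠ jw := fun he => h.colV.not_shared h.colW h4 hjv (he ▸ hjw) h.vw
  have hmem : ∀ {f : I → ℤ} {j : I}, evRows u f = {j} → j ∉ oddRows u := fun hj hO =>
    (Finset.mem_filter.1 hO).2 (Finset.mem_filter.1 (hj ▸ Finset.mem_singleton_self _ : _ ∈ evRows u _)).2.1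
  have hnot : ∀ {f : I → ℤ} {j k : I}, Col o d u f → evRows u f = {j} → k ∉ oddRows u → k ≠ j → f k = 0 :=
    fun hf hj hk hne => hf.zero_off hk (by rw [hj, Finset.mem_singleton]; exact hne)
  have u_v := hnot h.colU hju (hmem hjv) huv.symm
  have u_w := hnot h.colU hju (hmem hjw) huw.symm
  have v_u := hnot h.colV hjv (hmem hju) huv
  have v_w := hnot h.colV hjv (hmem hjw) hvw.symm
  have w_u := hnot h.colW hjw (hmem hju) huw
  have w_v := hnot h.colW hjw (hmem hjv) hvw
  have hV : ∑ i ∈ oddRows u, u i * v i = 0 := by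
    have := h.uv
    rwa [h.colU.sum_mul v, hju, Finset.sum_singleton, v_u, mul_zero, add_zero] at this
  have hW : ∑ i ∈ oddRows u, u i * w i = 0 := by
    have := h.uw
    rwa [h.colU.sum_mul w, hju, Finset.sum_singleton, w_u, mul_zero, add_zero] at this
  have hVW : ∑ i ∈ oddRows u, v i * w i = 0 := by
    have := h.vw
    rwa [h.colV.sum_mul w, hjv, Finset.sum_singleton, w_v, mul_zero, add_zero] at this
  have hc1 : ∀ {s t : ℤ}, (s = 1 ∨ s = -1) → (t = 1 ∨ t = -1) → ∃ j, patRows u v w s t = {j} :=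
    fun hs ht => Finset.card_eq_one.1 (by have := h.pat_card hV hW hVW hs ht; omega)
  obtain ⟨r0, hP0⟩ := hc1 (s := -1) (t := -1) (by simp) (by simp)
  obtain rfl : o = r0 := by
    have := h.trivial_pat
    rwa [hP0, Finset.mem_singleton] at this
  obtain ⟨ra, hP1⟩ := hc1 (s := 1) (t := 1) (by simp) (by simp)
  obtain ⟨rb, hP2⟩ := hc1 (s := 1) (t := -1) (by simp) (by simp)
  obtain ⟨rc, hP3⟩ := hc1 (s := -1) (t := 1) (by simp) (by simp)
  have hm := fun {i : I} {s t : ℤ} (hi : i ∈ patRows u v w s t) => h.at_pat hi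
  obtain ⟨a, au, av, aw, aabs, a0, adv, asq, amod, aqu, aqv, aqw⟩ :=
    hm (hP1 ▸ Finset.mem_singleton_self ra : ra ∈ _)
  obtain ⟨b, bu, bv, bw, babs, b0, bdv, bsq, bmod, bqu, bqv, bqw⟩ :=
    hm (hP2 ▸ Finset.mem_singleton_self rb : rb ∈ _)
  obtain ⟨c, cu, cv, cw, cabs, c0, cdv, csq, cmod, cqu, cqv, cqw⟩ :=
    hm (hP3 ▸ Finset.mem_singleton_self rc : rc ∈ _)
  obtain ⟨one, ou, ov, ow, -, -, -, -, -, oqu, oqv, oqw⟩ := hm h.trivial_pat
  obtain rfl : one = 1 := by rw [← ou, h.u_o, h.d_o]; norm_num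
  have split : ∀ {A : Type} [AddCommMonoid A] (k : I → A),
      ∑ i ∈ oddRows u, k i = k o + k ra + k rb + k rc := by
    intro A _ k
    rw [h.pat_split k, hP0, hP1, hP2, hP3, Finset.sum_singleton, Finset.sum_singleton,
      Finset.sum_singleton, Finset.sum_singleton]
  have hu2 := h.colU.even_val (hju ▸ Finset.mem_singleton_self ju : ju ∈ _)
  have hv2 := h.colV.even_val (hjv ▸ Finset.mem_singleton_self jv : jv ∈ _)
  -- the three linear equations
  obtain ⟨x, hx⟩ : ∃ x, u ju * d ju = 2 * x := ⟨(u ju / 2) * d ju, by rcases hu2 with h | h <;> rw [h] <;> ring⟩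
  obtain ⟨y, hy⟩ : ∃ y, v jv * d jv = 2 * y := ⟨(v jv / 2) * d jv, by rcases hv2 with h | h <;> rw [h] <;> ring⟩
  have l1 := h.du
  have l2 := h.dv
  have l3 := h.dw
  simp only [mul_comm (d _)] at l1 l2 l3
  rw [h.colU.sum_mul, hju, Finset.sum_singleton, split, hx, ou, au, bu, cu] at l1
  rw [h.colV.sum_mul, hjv, Finset.sum_singleton, split, hy, ov, av, bv, cv] at l2
  -- the Galois image of the even row of the second column
  obtain ⟨j, gd, -, gv, gw, -⟩ := h.gal jv
  have hjeq : j = jw := by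
    have hje : j ∉ oddRows u := fun hO => by
      have := h.colW.odd_val hO
      omega
    by_contra hne
    have := hnot h.colW hjw hje hne
    omega
  rw [hjeq] at gd gw
  rw [h.colW.sum_mul, hjw, Finset.sum_singleton, split, gw, gd, hy, ow, aw, bw, cw] at l3
  have q1 := h.tu
  have q2 := h.tv
  rw [h.sum_zero_off _ (s := insert ju (oddRows u)) fun i hi => by
    rw [Finset.mem_insert, not_or] at hi
    rw [hnot h.colU hju hi.2 hi.1]; simp] at q1
  rw [h.sum_zero_off _ (s := insert jv (oddRows u)) fun i hi => by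
    rw [Finset.mem_insert, not_or] at hi
    rw [hnot h.colV hjv hi.2 hi.1]; simp] at q2
  rw [Finset.sum_insert (hmem hju), split, oqu, aqu, bqu, cqu, v_u, w_u,
    h.e_zero (Or.inl (by omega : u ju ≠ 0))] at q1
  rw [Finset.sum_insert (hmem hjv), split, oqv, aqv, bqv, cqv, u_v, w_v,
    h.e_zero (Or.inr (Or.inl (by omega : v jv ≠ 0)))] at q2
  have hx' : ((3 * u ju : ℤ) : ℚ) ^ 2 * u ju / d ju = 72 / x := by
    rcases hu2 with h' | h' <;> rw [h'] at hx ⊢ <;>
      [rw [show x = d ju by linarith]; rw [show x = -d ju by linarith]] <;> push_cast <;> ring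
  have hy' : ((v jv : ℤ) : ℚ) ^ 2 * v jv / d jv = 8 / y := by
    rcases hv2 with h' | h' <;> rw [h'] at hy ⊢ <;>
      [rw [show y = d jv by linarith]; rw [show y = -d jv by linarith]] <;> push_cast <;> ring
  push_cast at hx' hy'
  norm_num at q1 q2
  rw [hx'] at q1
  rw [hy'] at q2
  have hsq := h.sq_lt (s := oddRows u) fun i hi => h.e_zero (Or.inl (by
    have := h.colU.odd_val hi; omega))
  rw [split, h.d_o, ← asq, ← bsq, ← csq] at hsq
  have hcu := h.cong ju
  rw [v_u, w_u, h.e_zero (Or.inl (by omega : u ju ≠ 0))] at hcu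
  refine four (a := a) (b := b) (c := c) (e := x) (g := y) (by omega : n ≠ 0) h840 h16 (by omega)
    (by omega) (by omega) ?_ ?_ adv (by nlinarith) (by nlinarith) (by linarith) (by linarith) (by linarith)
    (by linear_combination q1) (by linear_combination q2)
  · rcases hu2 with h' | h' <;> rw [h'] at hx hcu <;> omega
  · intro h0
    rw [h0] at hy
    have := h.dpos jv
    rcases hv2 with h' | h' <;> rw [h'] at hy <;> omega

theorem card_cases (h840 : 840 ∣ n) (h16 : ¬ 16 ∣ n) : n = 175560 ∨ (n = 189000 ∧ ∀ i, d i ≠ 125) := by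
  have hc := h.colU.count
  have hpos := Finset.card_pos.2 ⟨o, h.colU.mem_o⟩
  rcases (show (oddRows u).card = 8 ∨ (oddRows u).card = 4 by omega) with h8 | h4
  · exact h.eight_case h840 h16 h8
  · exact (h.four_case h840 h16 h4).elim

end Table

end Cfsg.Agent.JankoOne
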