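import Cfsg.Agent.Lib.JankoOne.Values
import Cfsg.Agent.Lib.JankoOne.Rows
import Cfsg.Agent.Lib.JankoOne.Degree125
import Cfsg.Prelude.Def_Sporadic

/-!
The order of a simple group with a 2-central involution with centraliser `Z₂ × A₅` is 175560.
-/

set_option autoImplicit false

namespace Cfsg.Agent.JankoOne

open Cfsg Cfsg.Agent.Char

theorem isJ1_of_centralizer {G : Type*} [Group G] [Finite G] [IsSimpleGroup G] (t : G)
    (ht : Cfsg.IsTwoCentralInvolution t)
    (e : Subgroup.centralizer ({t} : Set G) ≃* Multiplicative (ZMod 2) × alternatingGroup (Fin 5)) :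
    Cfsg.IsJ1 G := by
  classical
  obtain ⟨ι, E⟩ := exists_emb t ht e
  haveI : Fintype G := Fintype.ofFinite G
  obtain ⟨d, u, v, w, ee, hT, hd⟩ := E.exists_table
  refine ⟨inferInstance, ?_⟩
  rcases hT.card_cases E.dvd_card E.two with h | ⟨h, hne⟩
  · exact h
  · obtain ⟨χ, hχ⟩ := E.exists_degree_125 h
    refine absurd ?_ (hne χ)
    rw [hd] at hχ
    exact_mod_cast hχ

end Cfsg.Agent.JankoOne
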