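import Cfsg.Agent.Lib.JankoOne.Setup
import Cfsg.Agent.Lib.DoublyPrim.Parity
import Cfsg.Agent.Lib.Char.FourTrans
import Cfsg.Agent.S1010
import Mathlib.GroupTheory.FixedPointFree
import Mathlib.GroupTheory.SpecificGroups.Cyclic

/-!
A simple group with centraliser `Z₂ × A₅` of order 189000 has an irreducible character of degree 125.
-/

set_option autoImplicit false
set_option linter.style.haveILetI false

namespace Cfsg.Agent.JankoOne

variable {G : Type*} [Group G] [Finite G] [IsSimpleGroup G] {ι : M →* G}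

theorem eq_pow_of_conj_sq {z a : G} {p j : ℕ} [Fact p.Prime] (hz : orderOf z = p) (ha : a * a = 1)
    (hj : a * z * a⁻¹ = z ^ j) : a * z * a⁻¹ = z ∨ a * z * a⁻¹ = z⁻¹ := by
  have hz1 : z ^ p = 1 := hz ▸ pow_orderOf_eq_one z
  have h2 : z = z ^ (j * j) := by
    calc z = a * (a * z * a⁻¹) * a⁻¹ := by
          rw [show a⁻¹ = a from inv_eq_of_mul_eq_one_right ha]
          calc z = (a * a) * z * (a * a) := by rw [ha]; group
            _ = a * (a * z * a) * a := by group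
      _ = a * z ^ j * a⁻¹ := by rw [hj]
      _ = (z ^ j) ^ j := by rw [← conj_pow, hj]
      _ = z ^ (j * j) := (pow_mul z j j).symm
  have h3 : ((j * j : ℕ) : ZMod p) = 1 := by
    rw [← Nat.cast_one, ZMod.natCast_eq_natCast_iff]
    rw [← hz, ← pow_eq_pow_iff_modEq, pow_one]
    exact h2.symm
  push_cast at h3
  rcases mul_self_eq_one_iff.1 h3 with h | h
  · left
    rw [hj]
    conv_rhs => rw [← pow_one z]
    rw [pow_eq_pow_iff_modEq, hz, ← ZMod.natCast_eq_natCast_iff, h, Nat.cast_one]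
  · right
    rw [hj]
    refine eq_inv_of_mul_eq_one_left ?_
    rw [← pow_succ, ← orderOf_dvd_iff_pow_eq_one, hz, ← ZMod.natCast_eq_zero_iff]
    push_cast
    rw [h, neg_add_cancel]

/-- The part of `C(ι a)` of odd order: a normal subgroup whose commutators are powers of `ι a`. -/
structure OddPart (ι : M →* G) (a : M) (N : Subgroup G) : Prop where
  le : ∀ g ∈ N, g * ι a = ι a * g
  odd : Odd (Nat.card N)
  card : Nat.card (Subgroup.centralizer ({ι a} : Set G)) = 2 * Nat.card N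
  mem_of_odd : ∀ g : G, g * ι a = ι a * g → ∀ n : ℕ, Odd n → g ^ n = 1 → g ∈ N
  norm : ∀ g : G, g * ι a = ι a * g → ∀ x ∈ N, g * x * g⁻¹ ∈ N
  comm : ∀ g ∈ N, ∀ x ∈ N, ∃ k : ℕ, g * x * g⁻¹ = ι a ^ k * x
  fix : ∀ g ∈ N, g * ι tM = ι tM * g → ∃ k : ℕ, g = ι a ^ k

namespace Emb

variable (E : Emb ι)

include E

theorem two_power_sq {g : G} {k : ℕ} (hg : g ^ 2 ^ k = 1) : g * g = 1 := by
  haveI : Fact (Nat.Prime 2) := ⟨Nat.prime_two⟩
  have hp : IsPGroup 2 (Subgroup.zpowers g) := by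
    obtain ⟨m, -, hm⟩ := (Nat.dvd_prime_pow Nat.prime_two).1 (orderOf_dvd_of_pow_eq_one hg)
    exact IsPGroup.of_card (n := m) (by rw [Nat.card_zpowers, hm])
  obtain ⟨Q, hQ⟩ := hp.exists_le_sylow
  obtain ⟨c, hc⟩ := MulAction.exists_smul_eq G Q E.syl
  have hmem : c * g * c⁻¹ ∈ P0.map ι := by
    rw [← E.syl_coe, ← hc, Sylow.coe_subgroup_smul]
    exact Subgroup.smul_mem_pointwise_smul g (MulAut.conj c) _ (hQ (Subgroup.mem_zpowers g))
  obtain ⟨m, hm, he⟩ := hmem
  have h1 : ι (m * m) = 1 := by rw [hm.2, map_one]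
  rw [map_mul, he, show c * g * c⁻¹ * (c * g * c⁻¹) = c * (g * g) * c⁻¹ by group, conj_eq_one_iff] at h1
  exact h1

theorem exists_oddPart {p : ℕ} (hp : p = 3 ∨ p = 5) {a : M} (hta : a * tM = tM * a) (hap : a ^ p = 1)
    (h4 : ∀ m : M, m * a = a * m → m * m * m * m = 1 → m = 1 ∨ m = tM)
    (hpow : ∀ m : M, m * a = a * m → m ^ p = 1 → ∃ k : Fin p, m = a ^ (k : ℕ))
    (hexp : ∀ m : M, m * a = a * m → m ^ (2 * p) = 1) : ∃ N : Subgroup G, OddPart ι a N := by
  classical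
  haveI : Fact (Nat.Prime 2) := ⟨Nat.prime_two⟩
  set C : Subgroup G := Subgroup.centralizer ({ι a} : Set G) with hC
  have hmemC : ∀ {g : G}, g ∈ C ↔ g * ι a = ι a * g := fun {g} => Subgroup.mem_centralizer_singleton_iff
  let τ : C := ⟨ι tM, hmemC.2 (by rw [← map_mul, ← map_mul, hta])⟩
  have hτ : orderOf τ = 2 := by
    rw [← Subgroup.orderOf_coe]
    refine orderOf_eq_prime ?_ fun h => tM_sq.2.1 (E.inj (h.trans (map_one ι).symm))
    show ι tM ^ 2 = 1
    rw [pow_two, ← map_mul, tM_sq.1, map_one]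
  have h4dvd : Nat.card C % 4 = 2 := by
    have h2 : 2 ∣ Nat.card C := hτ ▸ orderOf_dvd_natCard τ
    by_contra hne
    have h4C : 4 ∣ Nat.card C := by omega
    have hp2 : IsPGroup 2 (Subgroup.zpowers τ) :=
      IsPGroup.of_card (n := 1) (by rw [Nat.card_zpowers, hτ, pow_one])
    obtain ⟨Q, hQ⟩ := hp2.exists_le_sylow
    have hdvd : 4 ∣ Nat.card (Q : Subgroup C) := Q.pow_dvd_card_of_pow_dvd_card (n := 2) h4C
    have hsq : ∀ x : C, x ∈ (Q : Subgroup C) → x * x = 1 := fun x hx => by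
      obtain ⟨k, hk⟩ := Q.isPGroup' ⟨x, hx⟩
      refine Subtype.ext ?_
      exact E.two_power_sq (g := (x : G)) (k := k) (congrArg (fun z : (Q : Subgroup C) => ((z : C) : G)) hk)
    have hsub : ∀ x : C, x ∈ (Q : Subgroup C) → x = 1 ∨ x = τ := fun x hx => by
      have hτQ : τ ∈ (Q : Subgroup C) := hQ (Subgroup.mem_zpowers τ)
      have hxi := inv_eq_of_mul_eq_one_right (hsq x hx)
      have hτi := inv_eq_of_mul_eq_one_right (hsq τ hτQ)
      have hcomm : x * τ = τ * x := by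
        have := inv_eq_of_mul_eq_one_right (hsq _ (mul_mem hx hτQ))
        rw [mul_inv_rev, hxi, hτi] at this
        exact this.symm
      obtain ⟨m, hm⟩ := E.cent (x : G) (congrArg Subtype.val hcomm)
      have hma : m * a = a * m := E.inj (by rw [map_mul, map_mul, hm]; exact hmemC.1 x.2)
      have hm4 : m * m * m * m = 1 := E.inj (by
        rw [map_mul, map_mul, map_mul, hm, map_one, mul_assoc, show (x : G) * x = 1 from congrArg Subtype.val (hsq x hx),
          one_mul])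
      rcases h4 m hma hm4 with rfl | rfl
      · exact Or.inl (Subtype.ext (hm.symm.trans (map_one ι)))
      · exact Or.inr (Subtype.ext hm.symm)
    have hle : Nat.card (Q : Subgroup C) ≤ Nat.card ({1, τ} : Finset C) :=
      Nat.card_le_card_of_injective (fun x => ⟨x.1, by
        rcases hsub x.1 x.2 with h | h <;> simp [h]⟩) fun x y h => Subtype.ext (congrArg (fun z : ({1, τ} : Finset C) => z.1) h)
    rw [Nat.card_eq_fintype_card (α := ({1, τ} : Finset C)), Fintype.card_coe] at hle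
    have := Finset.card_le_two (a := (1 : C)) (b := τ)
    have := Nat.le_of_dvd Nat.card_pos hdvd
    omega
  obtain ⟨N0, hN0, hcard, hodd⟩ := DoublyPrim.exists_odd_index_two h4dvd
  have hidx : N0.index = 2 := by
    have h := N0.card_mul_index
    rw [← hcard] at h
    exact mul_left_cancel₀ Nat.card_pos.ne' h
  have hsq' : ∀ x : C, x * x ∈ N0 := fun x => by
    rw [Subgroup.mul_mem_iff_of_index_two hidx]
  have hoddmem : ∀ x : C, ∀ n : ℕ, Odd n → x ^ n = 1 → x ∈ N0 := by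
    rintro x n ⟨k, rfl⟩ hx
    have : x ^ (2 * k) ∈ N0 := by rw [pow_mul, pow_two]; exact pow_mem (hsq' x) k
    rw [pow_succ] at hx
    rw [show x = (x ^ (2 * k))⁻¹ from (inv_eq_of_mul_eq_one_right hx).symm]
    exact inv_mem this
  have hfix : ∀ x : C, x ∈ N0 → x * τ = τ * x → ∃ k : ℕ, (x : G) = ι a ^ k := fun x hx hc => by
    obtain ⟨m, hm⟩ := E.cent (x : G) (congrArg Subtype.val hc)
    have hma : m * a = a * m := E.inj (by rw [map_mul, map_mul, hm]; exact hmemC.1 x.2)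
    have h1 : (x : G) ^ (2 * p) = 1 := by rw [← hm, ← map_pow, hexp m hma, map_one]
    have h2 : (x : G) ^ Nat.card N0 = 1 := by
      exact congrArg (fun z : N0 => ((z : C) : G)) (pow_card_eq_one' (x := (⟨x, hx⟩ : N0)))
    have h3 : (x : G) ^ p = 1 := by
      refine orderOf_dvd_iff_pow_eq_one.1 ?_
      have hd1 := orderOf_dvd_of_pow_eq_one h1
      have hd2 := orderOf_dvd_of_pow_eq_one h2
      exact (Nat.Coprime.of_dvd_left hd2 ((Nat.prime_two.coprime_iff_not_dvd.2 hodd).symm)).dvd_of_dvd_mul_left hd1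
    obtain ⟨k, hk⟩ := hpow m hma (E.inj (by rw [map_pow, hm, h3, map_one]))
    exact ⟨k, by rw [← hm, hk, map_pow]⟩
  -- the quotient by the central subgroup is inverted by the involution
  let zC : C := ⟨ι a, hmemC.2 rfl⟩
  have hzN : zC ∈ N0 := hoddmem zC p (by rcases hp with rfl | rfl <;> decide)
    (Subtype.ext (show ι a ^ p = 1 by rw [← map_pow, hap, map_one]))
  let z : N0 := ⟨zC, hzN⟩
  let Z : Subgroup N0 := Subgroup.zpowers z
  haveI hZn : Z.Normal := by
    refine ⟨fun x hx g => ?_⟩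
    obtain ⟨k, rfl⟩ := hx
    have hc : Commute g z := Subtype.ext (Subtype.ext (hmemC.1 (g : C).2))
    rw [show g * z ^ k * g⁻¹ = z ^ k by rw [(hc.zpow_right k).eq, mul_inv_cancel_right]]
    exact ⟨k, rfl⟩
  let φ0 : N0 →* N0 := (MulAut.conjNormal (H := N0) τ).toMonoidHom
  have hφ0 : ∀ x : N0, ((φ0 x : N0) : C) = τ * x * τ⁻¹ := fun x => MulAut.conjNormal_apply τ x
  have hφz : φ0 z = z := Subtype.ext (by
    rw [hφ0]
    refine mul_inv_eq_iff_eq_mul.2 ?_
    exact Subtype.ext (show ι tM * ι a = ι a * ι tM by rw [← map_mul, ← map_mul, hta]))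
  have hle : Z ≤ Z.comap φ0 := (Subgroup.zpowers_le).2 (show φ0 z ∈ Z by rw [hφz]; exact Subgroup.mem_zpowers z)
  let φ := QuotientGroup.map Z Z φ0 hle
  have hττ : ∀ x : N0, φ0 (φ0 x) = x := fun x => Subtype.ext (by
    rw [hφ0, hφ0]
    have : τ * τ = 1 := by rw [← pow_two, ← hτ, pow_orderOf_eq_one]
    calc τ * (τ * x * τ⁻¹) * τ⁻¹ = τ * τ * x * (τ * τ)⁻¹ := by group
      _ = x := by rw [this]; group)
  have hinv : Function.Involutive φ := fun q => by
    induction q using QuotientGroup.induction_on with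
    | H x => exact (congrArg φ (QuotientGroup.map_mk Z Z φ0 hle x)).trans (by
        rw [QuotientGroup.map_mk, hττ])
  have hfpf : MonoidHom.FixedPointFree φ := fun q => by
    induction q using QuotientGroup.induction_on with
    | H x =>
      intro hq
      rw [QuotientGroup.map_mk, QuotientGroup.eq] at hq
      obtain ⟨i, hi⟩ := Subgroup.mem_zpowers_iff.1 hq
      have e1 : φ0 x = x * z ^ (-i) := by
        rw [zpow_neg, hi]; group
      have e2 : x = x * z ^ (-i) * z ^ (-i) := by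
        conv_lhs => rw [← hττ x, e1, map_mul, map_zpow, hφz, e1]
      rw [mul_assoc, left_eq_mul] at e2
      have hzi : z ^ (-i) = 1 := by
        refine orderOf_eq_one_iff.1 (Nat.eq_one_of_dvd_coprimes (a := 2) (b := Nat.card N0)
          (Nat.prime_two.coprime_iff_not_dvd.2 hodd) (orderOf_dvd_of_pow_eq_one (by rw [pow_two, e2]))
          (orderOf_dvd_natCard _))
      rw [hzi, mul_one] at e1
      have hcomm : (x : C) * τ = τ * x := by
        have h' : τ * (x : C) * τ⁻¹ = (x : C) := by rw [← hφ0, e1]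
        exact (mul_inv_eq_iff_eq_mul.1 h').symm
      obtain ⟨k, hk⟩ := hfix (x : C) x.2 hcomm
      refine (QuotientGroup.eq_one_iff x).2 ⟨k, Subtype.ext (Subtype.ext ?_)⟩
      simp only [zpow_natCast]
      show ι a ^ k = _
      exact hk.symm
  refine ⟨N0.map C.subtype, ?_, ?_, ?_, ?_, ?_, ?_, ?_⟩
  · rintro g ⟨x, -, rfl⟩
    exact hmemC.1 x.2
  · rw [Subgroup.card_map_of_injective C.subtype_injective]
    exact Nat.not_even_iff_odd.1 fun h => hodd (even_iff_two_dvd.1 h)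
  · rw [Subgroup.card_map_of_injective C.subtype_injective, ← hcard, mul_comm]
  · intro g hg n hn hgn
    exact ⟨⟨g, hmemC.2 hg⟩, hoddmem _ n hn (Subtype.ext hgn), rfl⟩
  · rintro g hg x ⟨y, hy, rfl⟩
    exact ⟨⟨g, hmemC.2 hg⟩ * y * ⟨g, hmemC.2 hg⟩⁻¹, hN0.conj_mem y hy _, rfl⟩
  · rintro g ⟨g0, hg, rfl⟩ x ⟨x0, hx, rfl⟩
    have hc := hfpf.commute_all_of_involutive hinv (QuotientGroup.mk (⟨g0, hg⟩ : N0))
      (QuotientGroup.mk (⟨x0, hx⟩ : N0))
    have hmem : (⟨g0, hg⟩ : N0) * ⟨x0, hx⟩ * ⟨g0, hg⟩⁻¹ * (⟨x0, hx⟩ : N0)⁻¹ ∈ Z := by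
      rw [← QuotientGroup.eq_one_iff, QuotientGroup.mk_mul, QuotientGroup.mk_mul, QuotientGroup.mk_mul,
        QuotientGroup.mk_inv, QuotientGroup.mk_inv, hc.eq]
      group
    obtain ⟨k, hk⟩ := mem_powers_iff_mem_zpowers.2 hmem
    refine ⟨k, ?_⟩
    have h' := congrArg (fun w : N0 => ((w : C) : G)) hk
    simp only [Subgroup.coe_mul, Subgroup.coe_inv, SubmonoidClass.coe_pow] at h'
    show (g0 : G) * x0 * (g0 : G)⁻¹ = ι a ^ k * (x0 : G)
    rw [h', inv_mul_cancel_right]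
  · rintro g ⟨g0, hg, rfl⟩ hc
    exact hfix g0 hg (Subtype.ext hc)

/-- Two elements of 5-power order in the centraliser of `ι yM` span a 5-group. -/
theorem five_part : ∃ (N : Subgroup G) (R : Subgroup G), OddPart ι yM N ∧ R ≤ N ∧ IsPGroup 5 R ∧
    (∀ k : ℕ, 5 ^ k ∣ Nat.card N → 5 ^ k ∣ Nat.card R) ∧
    ∀ g : G, g * ι yM = ι yM * g → ∀ k : ℕ, g ^ 5 ^ k = 1 → g ∈ R := by
  haveI : Fact (Nat.Prime 5) := ⟨by norm_num⟩
  obtain ⟨N, hN⟩ := E.exists_oddPart (p := 5) (Or.inr rfl) (tM_comm yM) yM_facts.1 yM_cent.1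
    yM_cent.2.1 yM_cent.2.2
  obtain ⟨Q⟩ := (inferInstance : Nonempty (Sylow 5 N))
  have hzN : ι yM ∈ N := hN.mem_of_odd _ rfl 5 (by decide) (by rw [← map_pow, yM_facts.1, map_one])
  let z : N := ⟨ι yM, hzN⟩
  have hz5 : z ^ 5 = 1 := Subtype.ext (show ι yM ^ 5 = 1 by rw [← map_pow, yM_facts.1, map_one])
  have hzQ : z ∈ (Q : Subgroup N) := by
    have hn : (Q : Subgroup N) ≤ Subgroup.normalizer ((Subgroup.zpowers z : Subgroup N) : Set N) := by
      intro g _
      refine Subgroup.mem_normalizer_iff.2 fun x => ?_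
      have hc : ∀ w ∈ Subgroup.zpowers z, g * w = w * g := by
        rintro w ⟨k, rfl⟩
        have hgz : Commute g z := Subtype.ext (hN.le _ g.2)
        exact (hgz.zpow_right k).eq
      constructor
      · intro hx
        rwa [hc x hx, mul_inv_cancel_right]
      · intro hx
        have h := hc _ hx
        rw [inv_mul_cancel_right] at h
        have : g * x * g⁻¹ = x := by
          have h2 : g * (g * x * g⁻¹) = g * x := h
          exact mul_left_cancel h2
        rwa [this] at hx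
    have hzp : IsPGroup 5 (Subgroup.zpowers z) := IsPGroup.of_card (n := 1) (by
      rw [Nat.card_zpowers, pow_one]
      exact orderOf_eq_prime hz5 fun h => yM_facts.2.1 (E.inj ((congrArg Subtype.val h).trans (map_one ι).symm)))
    have h := hzp.to_sup_of_normal_left' Q.isPGroup' hn
    rw [← Q.is_maximal' h le_sup_right]
    exact Subgroup.mem_sup_left (Subgroup.mem_zpowers z)
  haveI hnorm : (Q : Subgroup N).Normal := ⟨fun x hx g => by
    obtain ⟨k, hk⟩ := hN.comm g g.2 x x.2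
    rw [show g * x * g⁻¹ = z ^ k * x from Subtype.ext hk]
    exact mul_mem (pow_mem hzQ k) hx⟩
  haveI := Sylow.unique_of_normal Q hnorm
  refine ⟨N, (Q : Subgroup N).map N.subtype, hN, Subgroup.map_subtype_le _, Q.isPGroup'.map _, ?_, ?_⟩
  · intro k hk
    rw [Subgroup.card_map_of_injective N.subtype_injective]
    exact Q.pow_dvd_card_of_pow_dvd_card hk
  · intro g hg k hk
    have hgN := hN.mem_of_odd g hg (5 ^ k) (Odd.pow (by decide)) hk
    have hp : IsPGroup 5 (Subgroup.zpowers (⟨g, hgN⟩ : N)) := by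
      obtain ⟨m, -, hm⟩ := (Nat.dvd_prime_pow (by norm_num : Nat.Prime 5)).1
        (orderOf_dvd_of_pow_eq_one (show (⟨g, hgN⟩ : N) ^ 5 ^ k = 1 from Subtype.ext hk))
      exact IsPGroup.of_card (n := m) (by rw [Nat.card_zpowers, hm])
    obtain ⟨Q', hQ'⟩ := hp.exists_le_sylow
    rw [Subsingleton.elim Q' Q] at hQ'
    exact ⟨_, hQ' (Subgroup.mem_zpowers _), rfl⟩

theorem five_conj {w a : G} (hw : w ^ 5 = 1) (hw1 : w ≠ 1) (ha : a * a = 1) (ha1 : a ≠ 1)
    (hc : a * w = w * a) :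
    ∃ c : G, ∀ g : G, g * w = w * g ↔ c * g * c⁻¹ * ι yM = ι yM * (c * g * c⁻¹) := by
  obtain ⟨d, hd⟩ := isConj_iff.1 (E.conj_t ha ha1).symm
  obtain ⟨m, hm⟩ := E.cent (d * w * d⁻¹) (by
    rw [← hd, show d * w * d⁻¹ * (d * a * d⁻¹) = d * (w * a) * d⁻¹ by group,
      show d * a * d⁻¹ * (d * w * d⁻¹) = d * (a * w) * d⁻¹ by group, hc])
  have hm5 : m ^ 5 = 1 := E.inj (by rw [map_pow, hm, conj_pow, hw, mul_one, mul_inv_cancel, map_one])
  have hm1 : m ≠ 1 := fun h => hw1 (conj_eq_one_iff.1 (by rw [← hm, h, map_one]))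
  obtain ⟨g0, hg0⟩ := five_elt m hm5 hm1
  refine ⟨ι ((1, g0) : M) * d, fun g => ?_⟩
  have hconj : ∀ k : G, (g * w = w * g ↔ k * g * k⁻¹ * (k * w * k⁻¹) = k * w * k⁻¹ * (k * g * k⁻¹)) :=
    fun k => by
      rw [show k * g * k⁻¹ * (k * w * k⁻¹) = k * (g * w) * k⁻¹ by group,
        show k * w * k⁻¹ * (k * g * k⁻¹) = k * (w * g) * k⁻¹ by group, mul_left_inj, mul_right_inj]
  have hkw : ι ((1, g0) : M) * d * w * (ι ((1, g0) : M) * d)⁻¹ = ι ((1, g0) * m * (1, g0)⁻¹) := by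
    rw [map_mul, map_mul, map_inv, hm]; group
  rw [hconj (ι ((1, g0) : M) * d), hkw]
  rcases hg0 with h | h
  · rw [h]
  · rw [h, map_pow]
    constructor
    · intro h2
      have h3 : Commute (ι ((1, g0) : M) * d * g * (ι ((1, g0) : M) * d)⁻¹) ((ι yM ^ 2) ^ 3) :=
        Commute.pow_right h2 3
      rw [← pow_mul, ← map_pow, show (2 * 3 : ℕ) = 5 + 1 from rfl, pow_succ, yM_facts.1, one_mul] at h3
      exact h3
    · intro h2
      exact (Commute.pow_right h2 2).eq

theorem normal_y {a : G} (ha : a * ι yM * a⁻¹ = ι yM ∨ a * ι yM * a⁻¹ = (ι yM)⁻¹) {g : G}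
    (hg : g * ι yM = ι yM * g) : a * g * a⁻¹ * ι yM = ι yM * (a * g * a⁻¹) := by
  have hk : ∀ u : G, g * u = u * g → a * g * a⁻¹ * (a * u * a⁻¹) = a * u * a⁻¹ * (a * g * a⁻¹) := fun u hu => by
    rw [show a * g * a⁻¹ * (a * u * a⁻¹) = a * (g * u) * a⁻¹ by group, hu]; group
  rcases ha with h | h
  · have := hk _ hg
    rwa [h] at this
  · have := hk _ hg
    rw [h] at this
    exact (Commute.inv_right_iff.1 this).eq

theorem card_five (hG : Nat.card G = 189000) :
    ∃ (N R : Subgroup G), OddPart ι yM N ∧ R ≤ N ∧ IsPGroup 5 R ∧ Nat.card R = 125 ∧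
      ∀ g : G, g * ι yM = ι yM * g → ∀ k : ℕ, g ^ 5 ^ k = 1 → g ∈ R := by
  haveI : Fact (Nat.Prime 5) := ⟨by norm_num⟩
  obtain ⟨N, R, hN, hRN, hR, hdvd, hall⟩ := E.five_part
  obtain ⟨r, hr⟩ := hR.exists_card_eq
  have hr3 : r ≤ 3 := by
    by_contra h
    have h1 : 5 ^ 4 ∣ Nat.card G := ((pow_dvd_pow 5 (by omega : 4 ≤ r)).trans (hr ▸ dvd_rfl)).trans
      (Subgroup.card_subgroup_dvd_card R)
    rw [hG] at h1
    norm_num at h1
  by_cases h125 : 125 ∣ Nat.card N
  · refine ⟨N, R, hN, hRN, hR, ?_, hall⟩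
    have := hdvd 3 h125
    have h' : Nat.card R ≤ 5 ^ 3 := hr ▸ Nat.pow_le_pow_right (by norm_num) hr3
    have := Nat.le_of_dvd Nat.card_pos this
    norm_num at h' this
    omega
  exfalso
  have hC125 : ¬ 125 ∣ Nat.card (Subgroup.centralizer ({ι yM} : Set G)) := by
    rw [hN.card]
    exact fun h => h125 ((Nat.Coprime.dvd_of_dvd_mul_left (by norm_num) h))
  -- a Sylow subgroup through `y`
  set y : G := ι yM with hy
  have hy5 : y ^ 5 = 1 := by rw [hy, ← map_pow, yM_facts.1, map_one]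
  have hy1 : y ≠ 1 := fun h => yM_facts.2.1 (E.inj (h.trans (map_one ι).symm))
  have hyo : orderOf y = 5 := orderOf_eq_prime hy5 hy1
  obtain ⟨P, hP⟩ := (IsPGroup.of_card (n := 1) (by rw [Nat.card_zpowers, hyo, pow_one]) :
    IsPGroup 5 (Subgroup.zpowers y)).exists_le_sylow
  have hyP : y ∈ (P : Subgroup G) := hP (Subgroup.mem_zpowers y)
  have hPcard : Nat.card (P : Subgroup G) = 125 := by
    obtain ⟨q, hq⟩ := P.isPGroup'.exists_card_eq
    have h1 : 5 ^ 3 ∣ Nat.card (P : Subgroup G) := P.pow_dvd_card_of_pow_dvd_card (by rw [hG]; norm_num)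
    have h2 : Nat.card (P : Subgroup G) ∣ 189000 := hG ▸ Subgroup.card_subgroup_dvd_card _
    rw [hq] at h1 h2 ⊢
    have h3 : 3 ≤ q := (Nat.pow_dvd_pow_iff_le_right (by norm_num)).1 h1
    have h4 : q < 4 := by
      by_contra h
      have := (pow_dvd_pow 5 (by omega : 4 ≤ q)).trans h2
      norm_num at this
    rw [show q = 3 by omega]; norm_num
  let yP : (P : Subgroup G) := ⟨y, hyP⟩
  have hycen : yP ∉ Subgroup.center (P : Subgroup G) := fun hc => hC125 (by
    rw [← hPcard]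
    exact Subgroup.card_dvd_of_le fun g hg => Subgroup.mem_centralizer_singleton_iff.2
      (congrArg Subtype.val (Subgroup.mem_center_iff.1 hc ⟨g, hg⟩)))
  haveI : Nontrivial (P : Subgroup G) := Finite.one_lt_card_iff_nontrivial.1 (by omega)
  obtain ⟨i, hi⟩ := (P.isPGroup'.to_subgroup (Subgroup.center _)).exists_card_eq
  have hcd : 5 ^ i ∣ 5 ^ 3 := by
    rw [← hi, show (5 : ℕ) ^ 3 = 125 from rfl, ← hPcard]
    exact Subgroup.card_subgroup_dvd_card _
  have hi3 : i ≤ 3 := (Nat.pow_dvd_pow_iff_le_right (by norm_num)).1 hcd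
  have hquot : Nat.card ((P : Subgroup G) ⧸ Subgroup.center (P : Subgroup G)) * 5 ^ i = 125 := by
    rw [← hi, ← Subgroup.card_eq_card_quotient_mul_card_subgroup, hPcard]
  have hzc : Nat.card (Subgroup.center (P : Subgroup G)) = 5 := by
    have hnt := P.isPGroup'.center_nontrivial
    rw [← Finite.one_lt_card_iff_nontrivial, hi] at hnt
    interval_cases i
    · norm_num at hnt
    · rw [hi]; norm_num
    · exfalso
      haveI : IsCyclic ((P : Subgroup G) ⧸ Subgroup.center (P : Subgroup G)) :=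
        isCyclic_of_prime_card (p := 5) (by norm_num at hquot; omega)
      exact hycen (Subgroup.mem_center_iff.2 fun g =>
        commutative_of_cyclic_center_quotient (QuotientGroup.mk' (Subgroup.center (P : Subgroup G)))
          (by rw [QuotientGroup.ker_mk']) g yP)
    · have := Subgroup.eq_top_of_card_eq (Subgroup.center (P : Subgroup G)) (by rw [hi, hPcard]; norm_num)
      exact absurd (this ▸ Subgroup.mem_top yP) hycen
  obtain ⟨z', hz'⟩ : ∃ z' : Subgroup.center (P : Subgroup G), z' ≠ 1 := by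
    haveI : Nontrivial (Subgroup.center (P : Subgroup G)) := Finite.one_lt_card_iff_nontrivial.1 (by omega)
    exact exists_ne 1
  set z : G := ((z' : (P : Subgroup G)) : G) with hz
  have hzcomm : ∀ g ∈ (P : Subgroup G), g * z = z * g := fun g hg =>
    congrArg Subtype.val (Subgroup.mem_center_iff.1 z'.2 ⟨g, hg⟩)
  have hzo : orderOf z = 5 := by
    rw [hz, Subgroup.orderOf_coe, Subgroup.orderOf_coe]
    exact orderOf_eq_prime (by have hpc := pow_card_eq_one' (x := z'); rwa [hzc] at hpc) hz'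
  have hz5 : z ^ 5 = 1 := hzo ▸ pow_orderOf_eq_one z
  have hzgen : ∀ c ∈ Subgroup.center (P : Subgroup G), ∃ k : ℕ, ((c : (P : Subgroup G)) : G) = z ^ k := by
    intro c hc
    have htop : Subgroup.zpowers z' = ⊤ := Subgroup.eq_top_of_card_eq _ (by
      rw [Nat.card_zpowers, hzc]
      exact orderOf_eq_prime (by have hpc := pow_card_eq_one' (x := z'); rwa [hzc] at hpc) hz')
    obtain ⟨k, hk⟩ := mem_powers_iff_mem_zpowers.2 (htop ▸ Subgroup.mem_top (⟨c, hc⟩ : Subgroup.center _))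
    exact ⟨k, by
      have := congrArg (fun w : Subgroup.center (P : Subgroup G) => ((w : (P : Subgroup G)) : G)) hk
      simpa [hz] using this.symm⟩
  have hnotpow : ∀ i : ℕ, y ^ i = z → False := fun i hi => by
    refine hC125 (hPcard ▸ Subgroup.card_dvd_of_le fun g hg => Subgroup.mem_centralizer_singleton_iff.2 ?_)
    have hi5 : i % 5 ≠ 0 := fun h => by
      rw [pow_eq_pow_mod i hy5, h, pow_zero] at hi
      rw [← hi, orderOf_one] at hzo
      omega
    obtain ⟨j, hj⟩ : ∃ j, (i * j) % 5 = 1 := by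
      have : i % 5 = 1 ∨ i % 5 = 2 ∨ i % 5 = 3 ∨ i % 5 = 4 := by omega
      rcases this with h | h | h | h
      exacts [⟨1, by omega⟩, ⟨3, by omega⟩, ⟨2, by omega⟩, ⟨4, by omega⟩]
    have : y = z ^ j := by
      rw [← hi, ← pow_mul, pow_eq_pow_mod (i * j) hy5, hj, pow_one]
    rw [this]
    exact (Commute.pow_right (hzcomm g hg) j).eq
  -- a conjugate of `y` by an element moving it
  obtain ⟨p, hp, hpy⟩ : ∃ p ∈ (P : Subgroup G), p * y ≠ y * p := by
    by_contra hc
    push Not at hc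
    exact hycen (Subgroup.mem_center_iff.2 fun g => Subtype.ext (hc g g.2))
  obtain ⟨k, hk⟩ : ∃ k : ℕ, p * y * p⁻¹ = y * z ^ k := by
    have hq : IsMulCommutative ((P : Subgroup G) ⧸ Subgroup.center (P : Subgroup G)) := by
      refine ⟨⟨fun a b => IsPGroup.commutative_of_card_eq_prime_sq (p := 5) ?_ a b⟩⟩
      rw [hzc] at hi
      rw [← hi] at hquot
      omega
    have hmem : (yP⁻¹ * (⟨p, hp⟩ * yP * (⟨p, hp⟩ : (P : Subgroup G))⁻¹)) ∈ Subgroup.center (P : Subgroup G) := by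
      rw [← QuotientGroup.eq_one_iff, QuotientGroup.mk_mul, QuotientGroup.mk_mul, QuotientGroup.mk_mul,
        QuotientGroup.mk_inv, QuotientGroup.mk_inv, hq.is_comm.comm (QuotientGroup.mk (⟨p, hp⟩ : (P : Subgroup G))) _]
      group
    obtain ⟨k, hk⟩ := hzgen _ hmem
    refine ⟨k, ?_⟩
    rw [← hk]
    simp only [Subgroup.coe_mul, Subgroup.coe_inv, yP]
    group
  have hk5 : k % 5 ≠ 0 := fun h => hpy (by
    rw [pow_eq_pow_mod k hz5, h, pow_zero, mul_one] at hk
    exact mul_inv_eq_iff_eq_mul.1 hk)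
  have hpz : p * z = z * p := hzcomm p hp
  have hyz : y * z = z * y := hzcomm y hyP
  have hiter : ∀ n i : ℕ, p ^ n * y ^ i * (p ^ n)⁻¹ = y ^ i * z ^ (k * n * i) := by
    intro n i
    have h1 : p ^ n * y * (p ^ n)⁻¹ = y * z ^ (k * n) := by
      induction n with
      | zero => simp
      | succ n ih =>
        have hc : p * z ^ (k * n) * p⁻¹ = z ^ (k * n) := by
          rw [(Commute.pow_right hpz (k * n)).eq, mul_inv_cancel_right]
        calc p ^ (n + 1) * y * (p ^ (n + 1))⁻¹ = p * (p ^ n * y * (p ^ n)⁻¹) * p⁻¹ := by rw [pow_succ']; group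
          _ = p * y * p⁻¹ * (p * z ^ (k * n) * p⁻¹) := by rw [ih]; group
          _ = y * z ^ (k * (n + 1)) := by rw [hk, hc, mul_assoc, ← pow_add, Nat.mul_succ, add_comm]
    rw [← conj_pow, h1, (Commute.pow_right hyz _).mul_pow, ← pow_mul]
  -- the 5-part of the centraliser
  let f : Fin 5 × Fin 5 → R := fun q => ⟨y ^ (q.1 : ℕ) * z ^ (q.2 : ℕ), hall _ (by
      exact (((Commute.refl y).pow_left _).mul_left ((Commute.symm hyz).pow_left _)).eq) 1 (by
      rw [pow_one, ((Commute.pow_pow hyz _ _)).mul_pow, ← pow_mul, ← pow_mul, mul_comm _ 5, mul_comm _ 5,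
        pow_mul, pow_mul, hy5, hz5, one_pow, one_pow, one_mul])⟩
  have hfinj : Function.Injective f := by
    rintro ⟨i, j⟩ ⟨i', j'⟩ h
    have h1 : y ^ (i : ℕ) * z ^ (j : ℕ) = y ^ (i' : ℕ) * z ^ (j' : ℕ) := congrArg Subtype.val h
    have h2 : y ^ ((i : ℕ) + (5 - i')) = z ^ ((j' : ℕ) + (5 - j)) := by
      have e := congrArg (fun u => y ^ (5 - (i' : ℕ)) * u * z ^ (5 - (j : ℕ))) h1
      rw [show y ^ (5 - (i' : ℕ)) * (y ^ (i : ℕ) * z ^ (j : ℕ)) * z ^ (5 - (j : ℕ)) =
          y ^ (5 - (i' : ℕ) + i) * z ^ ((j : ℕ) + (5 - j)) by rw [pow_add, pow_add]; group,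
        show y ^ (5 - (i' : ℕ)) * (y ^ (i' : ℕ) * z ^ (j' : ℕ)) * z ^ (5 - (j : ℕ)) =
          y ^ (5 - (i' : ℕ) + i') * z ^ ((j' : ℕ) + (5 - j)) by rw [pow_add, pow_add]; group,
        show (j : ℕ) + (5 - j) = 5 by omega, show 5 - (i' : ℕ) + i' = 5 by omega, hy5, hz5, mul_one,
        one_mul, add_comm] at e
      exact e
    have hj : j = j' := by
      by_contra hne
      set d := (j' : ℕ) + (5 - j) with hd
      have hd5 : d % 5 ≠ 0 := fun h => hne (Fin.ext (by omega))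
      obtain ⟨l, hl⟩ : ∃ l, (d * l) % 5 = 1 := by
        have : d % 5 = 1 ∨ d % 5 = 2 ∨ d % 5 = 3 ∨ d % 5 = 4 := by omega
        rcases this with h | h | h | h
        exacts [⟨1, by omega⟩, ⟨3, by omega⟩, ⟨2, by omega⟩, ⟨4, by omega⟩]
      refine hnotpow (((i : ℕ) + (5 - i')) * l) ?_
      rw [pow_mul, h2, ← pow_mul, pow_eq_pow_mod (d * l) hz5, hl, pow_one]
    subst hj
    rw [mul_left_inj, pow_eq_pow_iff_modEq, hyo] at h1
    refine Prod.ext (Fin.ext ?_) rfl
    have := Nat.ModEq.eq_of_lt_of_lt h1 i.2 i'.2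
    exact this
  have hR25 : Nat.card R ≤ 25 := by
    have hr2 : r ≤ 2 := by
      by_contra h
      exact h125 (((pow_dvd_pow 5 (by omega : 3 ≤ r)).trans (hr ▸ dvd_rfl)).trans (Subgroup.card_dvd_of_le hRN))
    rw [hr]
    exact (Nat.pow_le_pow_right (by norm_num) hr2).trans (by norm_num)
  have hfsurj : Function.Surjective f := by
    refine (Function.Injective.bijective_of_nat_card_le hfinj ?_).2
    simpa using hR25
  have hyfix : ∀ {g : G}, g * y = y * g → g * y * g⁻¹ = y := fun h => by rw [h, mul_inv_cancel_right]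
  have hzy : z * y = y * z := hyz.symm
  have hinvt : ∀ a : G, a * a = 1 → a ≠ 1 → (a * y * a⁻¹ = y ∨ a * y * a⁻¹ = y⁻¹) → a * z * a⁻¹ = z⁻¹ := by
    intro a ha ha1 hay
    have hnoc : a * z ≠ z * a := fun hc => by
      obtain ⟨c, hcc⟩ := E.five_conj hz5 (fun h => by rw [h, orderOf_one] at hzo; omega) ha ha1 hc
      refine hC125 (hPcard ▸ Subgroup.card_dvd_of_injective
        { toFun := fun g => ⟨c * g * c⁻¹, Subgroup.mem_centralizer_singleton_iff.2
            ((hcc g).1 (hzcomm g g.2))⟩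
          map_one' := Subtype.ext (by simp)
          map_mul' := fun u v => Subtype.ext (show c * (↑u * ↑v) * c⁻¹ = c * ↑u * c⁻¹ * (c * ↑v * c⁻¹) by group) }
        fun u v h => Subtype.ext (by simpa using congrArg Subtype.val h))
    have hmem : a * z * a⁻¹ ∈ R := hall _ (E.normal_y hay hzy) 1 (by
      rw [pow_one, conj_pow, hz5, mul_one, mul_inv_cancel])
    obtain ⟨⟨i, j⟩, hij⟩ := hfsurj ⟨_, hmem⟩
    have hij' : a * z * a⁻¹ = y ^ (i : ℕ) * z ^ (j : ℕ) := (congrArg Subtype.val hij).symm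
    by_cases hi0 : (i : ℕ) = 0
    · rw [hi0, pow_zero, one_mul] at hij'
      refine (eq_pow_of_conj_sq hzo ha hij').resolve_left fun h => hnoc ?_
      exact mul_inv_eq_iff_eq_mul.1 h
    exfalso
    -- the image is a conjugate of a power of `y`
    obtain ⟨n, hn⟩ : ∃ n, (k * n * i) % 5 = (j : ℕ) := by
      have hki : (k * i) % 5 ≠ 0 := fun h => by
        rcases (Nat.prime_five.dvd_mul.1 (Nat.dvd_of_mod_eq_zero h)) with h' | h' <;> omega
      obtain ⟨l, hl⟩ : ∃ l, ((k * i) * l) % 5 = 1 := by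
        have : (k * i) % 5 = 1 ∨ (k * i) % 5 = 2 ∨ (k * i) % 5 = 3 ∨ (k * i) % 5 = 4 := by omega
        rcases this with h | h | h | h
        exacts [⟨1, by omega⟩, ⟨3, by omega⟩, ⟨2, by omega⟩, ⟨4, by omega⟩]
      refine ⟨l * j, ?_⟩
      rw [show k * (l * j) * i = k * i * l * j by ring, Nat.mul_mod, hl, one_mul, Nat.mod_mod,
        Nat.mod_eq_of_lt j.2]
    have hconj : p ^ n * y ^ (i : ℕ) * (p ^ n)⁻¹ = a * z * a⁻¹ := by
      rw [hij', hiter n i, pow_eq_pow_mod (k * n * i) hz5, hn]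
    obtain ⟨l, hl⟩ : ∃ l, ((i : ℕ) * l) % 5 = 1 := by
      have : (i : ℕ) = 1 ∨ (i : ℕ) = 2 ∨ (i : ℕ) = 3 ∨ (i : ℕ) = 4 := by omega
      rcases this with h | h | h | h
      exacts [⟨1, by omega⟩, ⟨3, by omega⟩, ⟨2, by omega⟩, ⟨4, by omega⟩]
    set c : G := (p ^ n)⁻¹ * a with hcdef
    have hcy : c * z ^ l * c⁻¹ = y := by
      have : c * z * c⁻¹ = y ^ (i : ℕ) := by
        rw [hcdef, show (p ^ n)⁻¹ * a * z * ((p ^ n)⁻¹ * a)⁻¹ = (p ^ n)⁻¹ * (a * z * a⁻¹) * p ^ n by group,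
          ← hconj]
        group
      rw [← conj_pow, this, ← pow_mul, pow_eq_pow_mod ((i : ℕ) * l) hy5, hl, pow_one]
    refine hC125 (hPcard ▸ Subgroup.card_dvd_of_injective
      { toFun := fun g => ⟨c * g * c⁻¹, Subgroup.mem_centralizer_singleton_iff.2 (by
          rw [← hcy, show c * ↑g * c⁻¹ * (c * z ^ l * c⁻¹) = c * (↑g * z ^ l) * c⁻¹ by group,
            (Commute.pow_right (hzcomm g g.2) l).eq]
          group)⟩
        map_one' := Subtype.ext (by simp)
        map_mul' := fun u v => Subtype.ext (show c * (↑u * ↑v) * c⁻¹ = c * ↑u * c⁻¹ * (c * ↑v * c⁻¹) by group) }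
      fun u v h => Subtype.ext (by simpa using congrArg Subtype.val h))
  obtain ⟨-, -, hv2, hv1, hvy, htv, hvt, -, -⟩ := yM_facts
  have htt : ι tM * ι tM = 1 := by rw [← map_mul, tM_sq.1, map_one]
  have ht1 : ι tM ≠ 1 := fun h => tM_sq.2.1 (E.inj (h.trans (map_one ι).symm))
  have hty : ι tM * y * (ι tM)⁻¹ = y := by
    rw [mul_inv_eq_iff_eq_mul, hy, ← map_mul, ← map_mul, tM_comm]
  have hvy' : ι vM * y * (ι vM)⁻¹ = y⁻¹ := by rw [hy, ← map_inv, ← map_inv, ← map_mul, ← map_mul, hvy]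
  have e1 := hinvt _ htt ht1 (Or.inl hty)
  have e2 := hinvt _ (by rw [← map_mul, hv2, map_one]) (fun h => hv1 (E.inj (h.trans (map_one ι).symm)))
    (Or.inr hvy')
  have e3 := hinvt (ι (tM * vM)) (by
      rw [← map_mul, show tM * vM * (tM * vM) = tM * (vM * tM) * vM by group, tM_comm, ← mul_assoc,
        tM_sq.1, one_mul, hv2, map_one])
    (fun h => htv (E.inj (h.trans (map_one ι).symm)))
    (Or.inr (by rw [map_mul, show ι tM * ι vM * y * (ι tM * ι vM)⁻¹ = ι tM * (ι vM * y * (ι vM)⁻¹) * (ι tM)⁻¹ by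
      group, hvy', ← conj_inv, hty]))
  rw [map_mul, show ι tM * ι vM * z * (ι tM * ι vM)⁻¹ = ι tM * (ι vM * z * (ι vM)⁻¹) * (ι tM)⁻¹ by group,
    e2, ← conj_inv, e1, inv_inv] at e3
  have hz2 : z ^ 2 = 1 := by rw [pow_two]; exact mul_eq_one_iff_eq_inv.2 e3
  have := orderOf_dvd_of_pow_eq_one hz2
  rw [hzo] at this
  norm_num at this

end Emb

end Cfsg.Agent.JankoOne
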