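import Mathlib.GroupTheory.SpecificGroups.Alternating
import Mathlib.Algebra.Group.TypeTags.Finite
import Mathlib.Data.ZMod.Basic
import Mathlib.Algebra.Group.Prod

/-!
Facts about the model `Z₂ × A₅` of the involution centraliser in Janko's first group.
-/

set_option autoImplicit false
set_option maxRecDepth 4000
set_option synthInstance.maxSize 4000
set_option synthInstance.maxHeartbeats 200000

namespace Cfsg.Agent.JankoOne

/-- The alternating group of degree five. -/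
abbrev A5 : Type := alternatingGroup (Fin 5)

/-- The model `Z₂ × A₅`. -/
abbrev M : Type := Multiplicative (ZMod 2) × A5

/-- The central involution. -/
def tM : M := (Multiplicative.ofAdd 1, 1)

/-- The 3-cycle `(0 1 2)`. -/
def x5 : A5 := ⟨Equiv.swap 0 1 * Equiv.swap 1 2, Equiv.Perm.mem_alternatingGroup.2 (by decide +kernel)⟩

/-- The 5-cycle `(0 1 2 3 4)`. -/
def y5 : A5 := ⟨Equiv.swap 0 1 * Equiv.swap 1 2 * Equiv.swap 2 3 * Equiv.swap 3 4,
  Equiv.Perm.mem_alternatingGroup.2 (by decide +kernel)⟩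

/-- An involution inverting `y5`. -/
def i5 : A5 := ⟨Equiv.swap 1 4 * Equiv.swap 2 3, Equiv.Perm.mem_alternatingGroup.2 (by decide +kernel)⟩

/-- The involution `(0 1)(2 3)`. -/
def s5 : A5 := ⟨Equiv.swap 0 1 * Equiv.swap 2 3, Equiv.Perm.mem_alternatingGroup.2 (by decide +kernel)⟩

/-- Representatives of the odd order classes of `A₅`. -/
def rep (i : Fin 4) : A5 :=
  match i with
  | 0 => 1
  | 1 => x5
  | 2 => y5
  | 3 => y5 * y5

/-- Representatives of the classes of `Z₂ × A₅` whose odd powers give the central involution. -/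
def tr (i : Fin 4) : M := (Multiplicative.ofAdd 1, rep i)

/-- Membership in the standard Sylow 2-subgroup. -/
def InP (m : M) : Prop := m.2.1 4 = 4 ∧ m * m = 1

instance (m : M) : Decidable (InP m) := inferInstanceAs (Decidable (_ ∧ _))

theorem inP_mul : ∀ a b : M, InP a → InP b → InP (a * b) := by decide +kernel

/-- The standard Sylow 2-subgroup. -/
def P0 : Subgroup M where
  carrier := {m | InP m}
  mul_mem' {a b} ha hb := inP_mul a b ha hb
  one_mem' := ⟨rfl, mul_one _⟩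
  inv_mem' {a} ha := by
    have e : a⁻¹ = a := inv_eq_of_mul_eq_one_right ha.2
    simp only [Set.mem_setOf_eq] at ha ⊢
    rw [e]
    exact ha

theorem mem_P0 {m : M} : m ∈ P0 ↔ InP m := Iff.rfl

instance : DecidablePred (· ∈ P0) := fun m => inferInstanceAs (Decidable (InP m))

theorem card_P0 : Nat.card P0 = 8 := by
  rw [Nat.card_eq_fintype_card]
  decide +kernel

theorem card_M : Nat.card M = 120 := by
  rw [Nat.card_eq_fintype_card]
  decide +kernel

theorem tM_sq : tM * tM = 1 ∧ tM ≠ 1 ∧ InP tM := by decide +kernel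

theorem tM_comm (m : M) : m * tM = tM * m := by
  refine Prod.ext (mul_comm _ _) ?_
  show m.2 * 1 = 1 * m.2
  rw [mul_one, one_mul]

theorem center_cases : ∀ z : M, (∀ x, z * x = x * z) → z = 1 ∨ z = tM := by decide +kernel

theorem two_elt : ∀ g : M, g ^ 8 = 1 → g * g = 1 := by decide +kernel

theorem invol_cases : ∀ m : M, m * m = 1 → m = 1 ∨ m = tM ∨
    (∃ g : A5, (1, g) * m * (1, g)⁻¹ = (1, s5)) ∨
      ∃ g : A5, (1, g) * m * (1, g)⁻¹ = tM * (1, s5) := by decide +kernel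

theorem P0_cases : ∀ m : M, InP m → m = 1 ∨ m = tM ∨
    (m.1 = 1 ∧ ∀ m' : M, InP m' → m'.1 = 1 → m' ≠ 1 →
      ∃ k : Fin 3, (1, x5) ^ (k : ℕ) * m * ((1, x5) ^ (k : ℕ))⁻¹ = m') ∨
    (m.1 = Multiplicative.ofAdd 1 ∧ ∀ m' : M, InP m' → m'.1 = Multiplicative.ofAdd 1 → m' ≠ tM →
      ∃ k : Fin 3, (1, x5) ^ (k : ℕ) * m * ((1, x5) ^ (k : ℕ))⁻¹ = m') := by decide +kernel

theorem x5_norm : ∀ m : M, InP m → InP ((1, x5) * m * (1, x5)⁻¹) := by decide +kernel

theorem x5_norm' : ∀ m : M, InP m → InP ((1, x5)⁻¹ * m * (1, x5)) := by decide +kernel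

theorem P0_count : (Finset.univ.filter fun m : M => InP m ∧ m ≠ 1 ∧ m.1 = 1).card = 3 ∧
    (Finset.univ.filter fun m : M => InP m ∧ m ≠ 1).card = 7 ∧
    InP (1, s5) ∧ InP (tM * (1, s5)) := by decide +kernel

theorem tr_pow : ∀ i, tr i ^ 15 = tM := by decide +kernel

theorem tr_cent : ∀ i, (Finset.univ.filter fun m : M => m * tr i = tr i * m).card =
    ![120, 6, 10, 10] i := by decide +kernel

theorem tr_pairs : ∀ i, (Finset.univ.filter fun h : M =>
    h * h = 1 ∧ h ≠ 1 ∧ h * tr i * (h * tr i) = 1 ∧ h * tr i ≠ 1).card = ![30, 6, 10, 10] i := by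
  decide +kernel

theorem tr_ne : ∀ i j, (∃ g : M, g * tr i * g⁻¹ = tr j) → i = j := by decide +kernel

theorem tr_real : ∀ i, ∃ g : M, g * tr i * g⁻¹ = (tr i)⁻¹ := by decide +kernel

/-- The class of an element of `A₅`, involutions counted with the identity. -/
def cls (h : A5) : Fin 4 :=
  if h * h = 1 then 0
  else if h * h * h = 1 then 1
  else if ∃ g : A5, g * h * g⁻¹ = y5 then 2
  else 3

theorem cls_spec : ∀ h : A5, h * h = 1 ∨
    ∃ g : A5, (1, g) * (tM * (1, h)) * (1, g)⁻¹ = tr (cls h) := by decide +kernel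

theorem cls_sq : ∀ h : A5, h * h = 1 → cls h = 0 := by decide +kernel

theorem cls_count : ∀ i, (Finset.univ.filter fun h : A5 => cls h = i).card =
    ![16, 20, 12, 12] i := by decide +kernel

theorem cls_count_four : ∀ i, (Finset.univ.filter fun h : A5 => h.1 4 = 4 ∧ cls h = i).card =
    ![4, 8, 0, 0] i := by decide +kernel

theorem y5_pow : y5 ^ 5 = 1 ∧ ∀ k : Fin 5, cls (y5 ^ (k : ℕ)) = ![0, 2, 3, 3, 2] k := by
  decide +kernel

theorem tr_pow_galois : (∃ g : M, g * tr 1 ^ 1 * g⁻¹ = tr 1) ∧ (∃ g : M, g * tr 1 ^ 5 * g⁻¹ = tr 1) ∧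
    (∃ g : M, g * tr 2 ^ 7 * g⁻¹ = tr 3) ∧ (∃ g : M, g * tr 3 ^ 7 * g⁻¹ = tr 2) ∧
    tr 0 = tM ∧ tr 1 ^ 6 = 1 ∧ tr 2 ^ 10 = 1 ∧ tr 3 ^ 10 = 1 := by decide +kernel

/-- The element `(1, y5)`. -/
def yM : M := (1, y5)

/-- The element `(1, x5)`. -/
def xM : M := (1, x5)

/-- The element `(1, i5)`. -/
def vM : M := (1, i5)

theorem yM_facts : yM ^ 5 = 1 ∧ yM ≠ 1 ∧ vM * vM = 1 ∧ vM ≠ 1 ∧ vM * yM * vM⁻¹ = yM⁻¹ ∧
    tM * vM ≠ 1 ∧ vM ≠ tM ∧ xM ^ 3 = 1 ∧ xM ≠ 1 := by decide +kernel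

theorem yM_cent : (∀ m : M, m * yM = yM * m → m * m * m * m = 1 → m = 1 ∨ m = tM) ∧
    (∀ m : M, m * yM = yM * m → m ^ 5 = 1 → ∃ k : Fin 5, m = yM ^ (k : ℕ)) ∧
    (∀ m : M, m * yM = yM * m → m ^ 10 = 1) := by decide +kernel

theorem xM_cent : (∀ m : M, m * xM = xM * m → m * m * m * m = 1 → m = 1 ∨ m = tM) ∧
    (∀ m : M, m * xM = xM * m → m ^ 3 = 1 → ∃ k : Fin 3, m = xM ^ (k : ℕ)) ∧
    (∀ m : M, m * xM = xM * m → m ^ 6 = 1) := by decide +kernel

theorem five_elt : ∀ m : M, m ^ 5 = 1 → m ≠ 1 →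
    ∃ g : A5, (1, g) * m * (1, g)⁻¹ = yM ∨ (1, g) * m * (1, g)⁻¹ = yM ^ 2 := by decide +kernel

theorem three_elt : ∀ m : M, m ^ 3 = 1 → m ≠ 1 →
    ∃ g : A5, (1, g) * m * (1, g)⁻¹ = xM := by decide +kernel

end Cfsg.Agent.JankoOne
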