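import Cfsg.Agent.Lib.JankoOne.Model
import Cfsg.Agent.S0215
import Cfsg.Prelude.Def_SporadicB
import Mathlib.GroupTheory.Sylow
import Mathlib.GroupTheory.GroupAction.ConjAct
import Mathlib.GroupTheory.Subgroup.Simple

/-!
A simple group with a 2-central involution with centraliser `Z₂ × A₅`: fusion, divisibility of the order,
centralisers and pair counts of the elements `t r` with `r` of odd order.
-/

set_option autoImplicit false
set_option linter.style.haveILetI false

namespace Cfsg.Agent.JankoOne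

variable {G : Type*} [Group G]

theorem fst_ne : (Multiplicative.ofAdd 1 : Multiplicative (ZMod 2)) ≠ 1 := by decide

theorem fst_cases : ∀ z : Multiplicative (ZMod 2), z ≠ 1 → z = Multiplicative.ofAdd 1 := by decide

theorem tM_fst : tM.1 ≠ 1 := fst_ne

/-- An embedding of the model as the centraliser of a 2-central involution. -/
structure Emb (ι : M →* G) : Prop where
  inj : Function.Injective ι
  cent : ∀ g : G, g * ι tM = ι tM * g → ∃ m, ι m = g
  two : ¬ 16 ∣ Nat.card G

theorem exists_emb [Finite G] (t : G) (ht : Cfsg.IsTwoCentralInvolution t)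
    (e : Subgroup.centralizer ({t} : Set G) ≃* Multiplicative (ZMod 2) × alternatingGroup (Fin 5)) :
    ∃ ι : M →* G, Emb ι := by
  haveI : Fact (Nat.Prime 2) := ⟨Nat.prime_two⟩
  obtain ⟨ho, P, htP, hPc⟩ := ht
  let ι : M →* G := (Subgroup.centralizer ({t} : Set G)).subtype.comp e.symm.toMonoidHom
  have hι : ∀ m, ι m = (e.symm m : G) := fun m => rfl
  let tc : Subgroup.centralizer ({t} : Set G) := ⟨t, Subgroup.mem_centralizer_singleton_iff.2 rfl⟩
  have hz : e tc = 1 ∨ e tc = tM := center_cases _ fun x => e.symm.injective (by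
    rw [map_mul, map_mul, e.symm_apply_apply]
    exact Subtype.ext (Subgroup.mem_centralizer_singleton_iff.1 (e.symm x).2).symm)
  have htM : ι tM = t := by
    rcases hz with h | h
    · exfalso
      have h1 := e.injective (h.trans (map_one e).symm)
      have h2 : t = 1 := congrArg Subtype.val h1
      rw [h2, orderOf_one] at ho
      omega
    · rw [hι, ← h, e.symm_apply_apply]
  refine ⟨ι, fun a b h => e.symm.injective (Subtype.ext h), fun g hg => ?_, ?_⟩
  · rw [htM] at hg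
    exact ⟨e ⟨g, Subgroup.mem_centralizer_singleton_iff.2 hg⟩, by
      rw [hι, e.symm_apply_apply]⟩
  · intro h16
    have hle : (P : Subgroup G) ≤ Subgroup.centralizer {t} := fun x hx =>
      Subgroup.mem_centralizer_singleton_iff.2 (hPc x hx)
    have h := Subgroup.card_dvd_of_le hle
    rw [Nat.card_congr e.toEquiv, show Nat.card (Multiplicative (ZMod 2) × alternatingGroup (Fin 5)) = 120
      from card_M] at h
    have h2 := P.pow_dvd_card_of_pow_dvd_card (n := 4) h16
    exact absurd (h2.trans h) (by norm_num)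

namespace Emb

variable {ι : M →* G} (E : Emb ι)

include E

theorem isConj_model {a b : M} (h : IsConj (ι a) (ι b)) (ha : a ^ 15 = tM) (hb : b ^ 15 = tM) :
    ∃ g : M, g * a * g⁻¹ = b := by
  obtain ⟨c, hc⟩ := isConj_iff.1 h
  have h1 : c * ι tM * c⁻¹ = ι tM := by
    conv_lhs => rw [← ha, map_pow, ← conj_pow, hc, ← map_pow, hb]
  obtain ⟨g, rfl⟩ := E.cent c (mul_inv_eq_iff_eq_mul.1 h1)
  exact ⟨g, E.inj (by rw [map_mul, map_mul, map_inv, hc])⟩

theorem card_cent (m : M) (hm : m ^ 15 = tM) :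
    Nat.card (Subgroup.centralizer ({ι m} : Set G)) =
      (Finset.univ.filter fun x : M => x * m = m * x).card := by
  classical
  rw [← Fintype.card_coe, ← Nat.card_eq_fintype_card]
  refine (Nat.card_eq_of_bijective (fun x => (⟨ι x.1, ?_⟩ : Subgroup.centralizer ({ι m} : Set G)))
    ⟨fun x y h => ?_, fun g => ?_⟩).symm
  · rw [Subgroup.mem_centralizer_singleton_iff, ← map_mul, ← map_mul, (Finset.mem_filter.1 x.2).2]
  · exact Subtype.ext (E.inj (congrArg Subtype.val h))
  · have hg := Subgroup.mem_centralizer_singleton_iff.1 g.2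
    obtain ⟨x, hx⟩ := E.cent g.1 (by
      rw [← hm, map_pow]
      exact (Commute.pow_right hg 15).eq)
    refine ⟨⟨x, Finset.mem_filter.2 ⟨Finset.mem_univ _, E.inj ?_⟩⟩, Subtype.ext hx⟩
    rw [map_mul, map_mul, hx, hg]

section

variable [Finite G]

/-- The Sylow 2-subgroup which is the image of `P0`. -/
noncomputable def syl : Sylow 2 G :=
  haveI : Fact (Nat.Prime 2) := ⟨Nat.prime_two⟩
  Sylow.ofCard (P0.map ι) (by
    rw [Subgroup.card_map_of_injective E.inj, card_P0]
    have h8 : 8 ∣ Nat.card G := by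
      rw [← card_P0, ← Subgroup.card_map_of_injective E.inj]
      exact Subgroup.card_subgroup_dvd_card _
    have hf : (Nat.card G).factorization 2 = 3 := by
      refine le_antisymm (Nat.lt_succ_iff.1 (Nat.lt_of_not_le fun h => E.two ?_)) ?_
      · exact (pow_dvd_pow 2 h).trans (Nat.ordProj_dvd _ _)
      · exact (Nat.prime_two.pow_dvd_iff_le_factorization Nat.card_pos.ne').1 h8
    rw [hf]; norm_num)

theorem syl_coe : ((E.syl : Sylow 2 G) : Subgroup G) = P0.map ι := rfl

theorem not_isolated [IsSimpleGroup G] :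
    ∃ g : G, ∃ m : M, InP m ∧ m ≠ tM ∧ g * ι tM * g⁻¹ = ι m := by
  by_contra hc
  push Not at hc
  have ho : orderOf (ι tM) = 2 := by
    refine orderOf_eq_prime ?_ fun h => tM_sq.2.1 (E.inj (h.trans (map_one ι).symm))
    rw [pow_two, ← map_mul, tM_sq.1, map_one]
  obtain ⟨N, hN, hodd, hcom⟩ := Cfsg.Agent.S0215.result E.syl (ι tM) ho
    (show ι tM ∈ P0.map ι from ⟨tM, tM_sq.2.2, rfl⟩) (fun g hg => by
      obtain ⟨m, hm, he⟩ : g * ι tM * g⁻¹ ∈ P0.map ι := hg
      by_contra hne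
      refine hne ?_
      rw [← he, show m = tM from not_not.1 fun h => hc g m hm h he.symm])
  rcases hN.eq_bot_or_eq_top with rfl | rfl
  · have hcen : ∀ g : G, ι tM * g = g * ι tM := fun g => by
      have := (Subgroup.mem_bot).1 (hcom g)
      rwa [mul_inv_eq_one, mul_inv_eq_iff_eq_mul] at this
    have hsurj : Function.Surjective ι := fun g => E.cent g (hcen g).symm
    have hcenter : ι tM ∈ Subgroup.center G := Subgroup.mem_center_iff.2 fun g => (hcen g).symm
    rcases (inferInstance : (Subgroup.center G).Normal).eq_bot_or_eq_top with h | h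
    · rw [h, Subgroup.mem_bot] at hcenter
      exact tM_sq.2.1 (E.inj (hcenter.trans (map_one ι).symm))
    · have hc' : ∀ x : M, (1, x5) * x = x * (1, x5) := fun x => E.inj (by
        rw [map_mul, map_mul]
        have hx : ι ((1, x5) : M) ∈ Subgroup.center G := h ▸ Subgroup.mem_top _
        exact (Subgroup.mem_center_iff.1 hx (ι x)).symm)
      exact absurd (hc' (1, y5)) (by decide +kernel)
  · rw [Subgroup.card_top] at hodd
    have h : Nat.card (P0.map ι) ∣ Nat.card G := Subgroup.card_subgroup_dvd_card _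
    rw [Subgroup.card_map_of_injective E.inj, card_P0] at h
    rw [Nat.odd_iff] at hodd
    obtain ⟨k, hk⟩ := h
    omega

theorem fusion [IsSimpleGroup G] :
    (∀ m : M, InP m → m ≠ 1 → IsConj (ι tM) (ι m)) ∧ 7 ∣ Nat.card G := by
  classical
  haveI : Fact (Nat.Prime 2) := ⟨Nat.prime_two⟩
  haveI hcomm : IsMulCommutative ((E.syl : Sylow 2 G) : Subgroup G) := by
    refine ⟨⟨fun a b => Subtype.ext ?_⟩⟩
    obtain ⟨x, hx, hxa⟩ : (a : G) ∈ P0.map ι := a.2
    obtain ⟨y, hy, hyb⟩ : (b : G) ∈ P0.map ι := b.2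
    show (a : G) * b = b * a
    rw [← hxa, ← hyb, ← map_mul, ← map_mul]
    refine congrArg ι ?_
    have h1 := (inP_mul x y hx hy).2
    calc x * y = (x * y)⁻¹ := (inv_eq_of_mul_eq_one_right h1).symm
      _ = y * x := by rw [mul_inv_rev, inv_eq_of_mul_eq_one_right hx.2, inv_eq_of_mul_eq_one_right hy.2]
  let N : Subgroup G := Subgroup.normalizer (((E.syl : Sylow 2 G) : Subgroup G) : Set G)
  let K : Subgroup (ConjAct G) := N.map ConjAct.toConjAct.toMonoidHom
  have hmemK : ∀ g ∈ N, ConjAct.toConjAct g ∈ K := fun g hg => Subgroup.mem_map_of_mem _ hg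
  have htS : ι tM ∈ ((E.syl : Sylow 2 G) : Subgroup G) := ⟨tM, tM_sq.2.2, rfl⟩
  -- the set of elements of the model fused to the involution inside the normaliser
  let O : Finset M := Finset.univ.filter fun m => InP m ∧ ι m ∈ MulAction.orbit K (ι tM)
  have hOorb : ∀ g ∈ MulAction.orbit K (ι tM), ∃ m ∈ O, ι m = g := by
    rintro g ⟨k, rfl⟩
    obtain ⟨n, hn, hk⟩ := k.2
    have h1 : k • ι tM = n * ι tM * n⁻¹ := by
      show (k : ConjAct G) • ι tM = _
      rw [← hk]; rfl
    have h2 : n * ι tM * n⁻¹ ∈ ((E.syl : Sylow 2 G) : Subgroup G) :=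
      (Subgroup.mem_normalizer_iff.1 hn _).1 htS
    obtain ⟨m, hm, he⟩ : n * ι tM * n⁻¹ ∈ P0.map ι := h2
    exact ⟨m, Finset.mem_filter.2 ⟨Finset.mem_univ _, hm, by rw [he, ← h1]; exact ⟨k, rfl⟩⟩, he.trans h1.symm⟩
  have hcard : Nat.card (MulAction.orbit K (ι tM)) = O.card := by
    rw [← Fintype.card_coe, ← Nat.card_eq_fintype_card]
    refine (Nat.card_eq_of_bijective (fun m => ⟨ι m.1, (Finset.mem_filter.1 m.2).2.2⟩)
      ⟨fun a b h => Subtype.ext (E.inj (congrArg Subtype.val h)), fun g => ?_⟩).symm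
    obtain ⟨m, hm, he⟩ := hOorb g.1 g.2
    exact ⟨⟨m, hm⟩, Subtype.ext he⟩
  have hKcard : Nat.card K = Nat.card N :=
    Subgroup.card_map_of_injective ConjAct.toConjAct.injective
  have hos := Nat.card_congr (MulAction.orbitProdStabilizerEquivGroup K (ι tM))
  rw [Nat.card_prod, hcard, hKcard] at hos
  have hOdvd : O.card ∣ Nat.card G :=
    (Dvd.intro _ hos).trans (Subgroup.card_subgroup_dvd_card N)
  have hOodd : ¬ 2 ∣ O.card := by
    intro h2
    have h8 : 8 ∣ Nat.card (MulAction.stabilizer K (ι tM)) := by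
      rw [← card_P0, ← Subgroup.card_map_of_injective E.inj, ← E.syl_coe]
      refine Subgroup.card_dvd_of_injective
        { toFun := fun s => ⟨⟨ConjAct.toConjAct (s : G), hmemK _ (Subgroup.le_normalizer s.2)⟩, by
            rw [MulAction.mem_stabilizer_iff]
            show (s : G) * ι tM * (s : G)⁻¹ = ι tM
            rw [mul_inv_eq_iff_eq_mul]
            exact congrArg Subtype.val (hcomm.is_comm.comm s ⟨_, htS⟩)⟩
          map_one' := Subtype.ext (Subtype.ext (map_one _))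
          map_mul' := fun a b => Subtype.ext (Subtype.ext (map_mul _ _ _)) } ?_
      intro a b h
      exact Subtype.ext (ConjAct.toConjAct.injective (congrArg (fun z => ((z : K) : ConjAct G)) (congrArg Subtype.val h)))
    refine E.two (Dvd.dvd.trans ?_ (Subgroup.card_subgroup_dvd_card N))
    rw [← hos]
    exact mul_dvd_mul h2 h8
  have h1O : (1 : M) ∉ O := fun h => by
    obtain ⟨k, hk⟩ := (Finset.mem_filter.1 h).2.2
    rw [map_one, smul_eq_iff_eq_inv_smul, smul_one] at hk
    exact tM_sq.2.1 (E.inj (hk.trans (map_one ι).symm))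
  have htO : tM ∈ O := Finset.mem_filter.2 ⟨Finset.mem_univ _, tM_sq.2.2, MulAction.mem_orbit_self _⟩
  have hxN : ι ((1, x5) : M) ∈ N := by
    refine Subgroup.mem_normalizer_iff.2 fun g => ⟨?_, ?_⟩
    · intro hg
      obtain ⟨m, hm, rfl⟩ : g ∈ P0.map ι := hg
      exact ⟨_, x5_norm m hm, by rw [map_mul, map_mul, map_inv]⟩
    · intro hg
      obtain ⟨m, hm, he⟩ : ι (1, x5) * g * (ι (1, x5))⁻¹ ∈ P0.map ι := hg
      refine ⟨_, x5_norm' m hm, ?_⟩
      rw [map_mul, map_mul, map_inv, he]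
      group
  have hclosed : ∀ m ∈ O, ∀ m' : M, InP m' →
      (∃ k : Fin 3, (1, x5) ^ (k : ℕ) * m * ((1, x5) ^ (k : ℕ))⁻¹ = m') → m' ∈ O := by
    rintro m hm m' hm' ⟨k, rfl⟩
    refine Finset.mem_filter.2 ⟨Finset.mem_univ _, hm', ?_⟩
    rw [MulAction.orbit_eq_iff.2 (Finset.mem_filter.1 hm).2.2 |>.symm]
    refine ⟨⟨ConjAct.toConjAct (ι ((1, x5) : M) ^ (k : ℕ)), hmemK _ (pow_mem hxN _)⟩, ?_⟩
    show ι ((1, x5) : M) ^ (k : ℕ) * ι m * (ι ((1, x5) : M) ^ (k : ℕ))⁻¹ = _
    rw [← map_pow, ← map_inv, ← map_mul, ← map_mul]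
  have hex : ∃ m ∈ O, m ≠ tM := by
    obtain ⟨g, m, hm, hne, he⟩ := E.not_isolated
    obtain ⟨n, hn, hn'⟩ := Sylow.conj_eq_normalizer_conj_of_mem E.syl (ι tM) g⁻¹ htS (by
      rw [inv_inv]
      show g * ι tM * g⁻¹ ∈ P0.map ι
      exact ⟨m, hm, he.symm⟩)
    refine ⟨m, Finset.mem_filter.2 ⟨Finset.mem_univ _, hm,
      ⟨⟨ConjAct.toConjAct n⁻¹, hmemK _ (inv_mem hn)⟩, ?_⟩⟩, hne⟩
    show n⁻¹ * ι tM * n⁻¹⁻¹ = ι m
    rw [inv_inv, ← hn', inv_inv, he]
  obtain ⟨hc1, hc7, hs, hts⟩ := P0_count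
  have hall : ∀ m : M, InP m → m ≠ 1 → m ∈ O := by
    let A : Finset M := Finset.univ.filter fun m => InP m ∧ m ≠ 1 ∧ m.1 = 1
    let B : Finset M := Finset.univ.filter fun m => InP m ∧ m ≠ 1
    have hsub : O ⊆ B := fun m hm => Finset.mem_filter.2
      ⟨Finset.mem_univ _, (Finset.mem_filter.1 hm).2.1, fun h => h1O (h ▸ hm)⟩
    suffices hB : O = B from fun m hm h1 => hB ▸ Finset.mem_filter.2 ⟨Finset.mem_univ _, hm, h1⟩
    have hA : ∀ m ∈ O, m ≠ tM → m.1 = 1 → A ⊆ O := by
      intro m hm hne h1 a ha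
      obtain ⟨-, haP, ha1, ha0⟩ := Finset.mem_filter.1 ha
      rcases P0_cases m (Finset.mem_filter.1 hm).2.1 with h | h | h | h
      · exact absurd (h ▸ hm) h1O
      · exact absurd h hne
      · exact hclosed m hm a haP (h.2 a haP ha0 ha1)
      · rw [h.1] at h1; exact absurd h1 fst_ne
    have hA' : ∀ m ∈ O, m ≠ tM → m.1 ≠ 1 → B \ A ⊆ O := by
      intro m hm hne h1 a ha
      obtain ⟨haB, haA⟩ := Finset.mem_sdiff.1 ha
      obtain ⟨-, haP, ha1⟩ := Finset.mem_filter.1 haB
      have ha0 : a.1 = Multiplicative.ofAdd 1 := by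
        have h0 : a.1 ≠ 1 := fun h => haA (Finset.mem_filter.2 ⟨Finset.mem_univ _, haP, ha1, h⟩)
        exact fst_cases _ h0
      by_cases hat : a = tM
      · exact hat ▸ htO
      rcases P0_cases m (Finset.mem_filter.1 hm).2.1 with h | h | h | h
      · exact absurd (h ▸ hm) h1O
      · exact absurd h hne
      · exact absurd h.1 h1
      · exact hclosed m hm a haP (h.2 a haP ha0 hat)
    have hAB : A ⊆ B := fun m hm => Finset.mem_filter.2
      ⟨Finset.mem_univ _, (Finset.mem_filter.1 hm).2.1, (Finset.mem_filter.1 hm).2.2.1⟩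
    by_contra hne
    obtain ⟨m, hm, hmt⟩ := hex
    by_cases hboth : ∃ p ∈ O, p.1 = 1
    · by_cases hboth' : ∃ q ∈ O, q ≠ tM ∧ q.1 ≠ 1
      · obtain ⟨p, hp, hp1⟩ := hboth
        obtain ⟨q, hq, hq1, hq2⟩ := hboth'
        have hpt : p ≠ tM := fun h => by rw [h] at hp1; exact absurd hp1 tM_fst
        refine hne (Finset.Subset.antisymm hsub fun a ha => ?_)
        by_cases haA : a ∈ A
        · exact hA p hp hpt hp1 haA
        · exact hA' q hq hq1 hq2 (Finset.mem_sdiff.2 ⟨ha, haA⟩)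
      · push Not at hboth'
        obtain ⟨p, hp, hp1⟩ := hboth
        have hpt : p ≠ tM := fun h => by rw [h] at hp1; exact absurd hp1 tM_fst
        have hO : O = insert tM A := by
          refine Finset.Subset.antisymm (fun a ha => ?_) (Finset.insert_subset htO (hA p hp hpt hp1))
          by_cases hat : a = tM
          · exact hat ▸ Finset.mem_insert_self _ _
          · exact Finset.mem_insert_of_mem (Finset.mem_filter.2 ⟨Finset.mem_univ _,
              (Finset.mem_filter.1 ha).2.1, fun h => h1O (h ▸ ha), hboth' a ha hat⟩)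
        refine hOodd ?_
        rw [hO, Finset.card_insert_of_notMem fun h => absurd (Finset.mem_filter.1 h).2.2.2 tM_fst, hc1]
        norm_num
    · push Not at hboth
      have hO : O = B \ A := by
        refine Finset.Subset.antisymm (fun a ha => Finset.mem_sdiff.2 ⟨hsub ha,
          fun h => hboth a ha (Finset.mem_filter.1 h).2.2.2⟩) (hA' m hm hmt (hboth m hm))
      refine hOodd ?_
      rw [hO, Finset.card_sdiff_of_subset hAB, hc1, hc7]
      norm_num
  refine ⟨fun m hm h1 => ?_, ?_⟩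
  · obtain ⟨k, hk⟩ := (Finset.mem_filter.1 (hall m hm h1)).2.2
    exact isConj_iff.2 ⟨ConjAct.ofConjAct (k : ConjAct G), hk⟩
  · have hB : O = Finset.univ.filter fun m => InP m ∧ m ≠ 1 := Finset.Subset.antisymm
      (fun m hm => Finset.mem_filter.2
        ⟨Finset.mem_univ _, (Finset.mem_filter.1 hm).2.1, fun h => h1O (h ▸ hm)⟩)
      (fun m hm => hall m (Finset.mem_filter.1 hm).2.1 (Finset.mem_filter.1 hm).2.2)
    rwa [hB, hc7] at hOdvd

theorem conj_t [IsSimpleGroup G] {g : G} (h2 : g * g = 1) (h1 : g ≠ 1) : IsConj (ι tM) g := by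
  haveI : Fact (Nat.Prime 2) := ⟨Nat.prime_two⟩
  have hp : IsPGroup 2 (Subgroup.zpowers g) := by
    refine IsPGroup.of_card (n := 1) ?_
    rw [Nat.card_zpowers, pow_one]
    exact orderOf_eq_prime (by rw [pow_two, h2]) h1
  obtain ⟨Q, hQ⟩ := hp.exists_le_sylow
  obtain ⟨c, hc⟩ := MulAction.exists_smul_eq G Q E.syl
  have hg : c * g * c⁻¹ ∈ P0.map ι := by
    rw [← E.syl_coe, ← hc, Sylow.coe_subgroup_smul]
    exact Subgroup.smul_mem_pointwise_smul g (MulAut.conj c) _ (hQ (Subgroup.mem_zpowers g))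
  obtain ⟨m, hm, he⟩ := hg
  refine (E.fusion.1 m hm fun h => h1 ?_).trans ?_
  · rw [h, map_one] at he
    exact (conj_eq_one_iff).1 he.symm
  · rw [he]
    exact (isConj_iff.2 ⟨c, rfl⟩).symm

theorem dvd_card [IsSimpleGroup G] : 840 ∣ Nat.card G := by
  have h1 : 120 ∣ Nat.card G := by
    rw [← card_M]
    exact Subgroup.card_dvd_of_injective ι E.inj
  have := Nat.Coprime.mul_dvd_of_dvd_of_dvd (by norm_num : Nat.Coprime 120 7) h1 E.fusion.2
  simpa using this

theorem nat_pairs [IsSimpleGroup G] (m : M) (hm : m ^ 15 = tM) :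
    Nat.card {a : G // IsConj (ι tM) a ∧ IsConj (ι tM) (a⁻¹ * ι m)} =
      (Finset.univ.filter fun h : M => h * h = 1 ∧ h ≠ 1 ∧ h * m * (h * m) = 1 ∧ h * m ≠ 1).card := by
  classical
  have hinv : ∀ g : G, IsConj (ι tM) g → g * g = 1 ∧ g ≠ 1 := by
    intro g hg
    obtain ⟨c, rfl⟩ := isConj_iff.1 hg
    refine ⟨?_, fun h => tM_sq.2.1 (E.inj ?_)⟩
    · rw [show c * ι tM * c⁻¹ * (c * ι tM * c⁻¹) = c * (ι tM * ι tM) * c⁻¹ by group, ← map_mul,
        tM_sq.1, map_one, mul_one, mul_inv_cancel]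
    · rw [map_one]; exact conj_eq_one_iff.1 h
  rw [← Fintype.card_coe, ← Nat.card_eq_fintype_card]
  refine (Nat.card_eq_of_bijective
    (fun h => (⟨ι h.1, ?_⟩ : {a : G // IsConj (ι tM) a ∧ IsConj (ι tM) (a⁻¹ * ι m)}))
    ⟨fun x y h => ?_, fun a => ?_⟩).symm
  · obtain ⟨-, h1, h2, h3, h4⟩ := Finset.mem_filter.1 h.2
    refine ⟨E.conj_t (by rw [← map_mul, h1, map_one]) fun e => h2 (E.inj (e.trans (map_one ι).symm)), ?_⟩
    rw [← map_inv, inv_eq_of_mul_eq_one_right h1, ← map_mul]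
    exact E.conj_t (by rw [← map_mul, h3, map_one]) fun e => h4 (E.inj (e.trans (map_one ι).symm))
  · exact Subtype.ext (E.inj (congrArg Subtype.val h))
  · obtain ⟨a, ha, hb⟩ := a
    obtain ⟨ha2, ha1⟩ := hinv a ha
    obtain ⟨hb2, hb1⟩ := hinv _ hb
    rw [inv_eq_of_mul_eq_one_right ha2] at hb2 hb1
    have hai : a⁻¹ = a := inv_eq_of_mul_eq_one_right ha2
    have e1 : a * ι m * a⁻¹ = (ι m)⁻¹ := by
      rw [hai]
      exact eq_inv_of_mul_eq_one_left (by rw [← hb2]; group)
    have e2 : a * ι tM * a⁻¹ = ι tM := by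
      conv_lhs => rw [← hm, map_pow, ← conj_pow, e1, inv_pow, ← map_pow, hm, ← map_inv,
        inv_eq_of_mul_eq_one_right tM_sq.1]
    obtain ⟨x, rfl⟩ := E.cent a (mul_inv_eq_iff_eq_mul.1 e2)
    refine ⟨⟨x, Finset.mem_filter.2 ⟨Finset.mem_univ _, E.inj ?_, ?_, E.inj ?_, ?_⟩⟩, rfl⟩
    · rw [map_mul, ha2, map_one]
    · exact fun h => ha1 (by rw [h, map_one])
    · rw [map_mul, map_mul, map_one]; exact hb2
    · exact fun h => hb1 (by rw [← map_mul, h, map_one])

end

end Emb

end Cfsg.Agent.JankoOne
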