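import Mathlib.Algebra.BigOperators.Ring.Finset
import Mathlib.Algebra.BigOperators.Field
import Mathlib.Data.Rat.Defs
import Mathlib.Algebra.Field.Rat
import Mathlib.Algebra.Order.Ring.Int
import Mathlib.Data.Fintype.Basic

/-!
The arithmetic content of the generalised decomposition numbers for a centraliser `Z₂ × A₅`.
-/

set_option autoImplicit false

namespace Cfsg.Agent.JankoOne

/-- The integer columns attached to a group of order `n` with involution centraliser `Z₂ × A₅`: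
degrees, the three non-principal combinations `u`, `v`, `w` and the combination `e` of defect one. -/
structure Table {I : Type*} [Fintype I] (n : ℕ) (o : I) (d u v w e : I → ℤ) : Prop where
  dpos : ∀ i, 0 < d i
  ddvd : ∀ i, d i ∣ (n : ℤ)
  dsq : ∑ i, d i ^ 2 = (n : ℤ)
  lin : ∀ i, d i = 1 → i = o
  d_o : d o = 1
  u_o : u o = 1
  v_o : v o = -1
  w_o : w o = -1
  e_o : e o = 0
  parv : ∀ i, 2 ∣ u i - v i
  parw : ∀ i, 2 ∣ u i - w i
  cong : ∀ i, 8 ∣ d i - (3 * u i + v i + w i + 4 * e i)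
  uu : ∑ i, u i * u i = 8
  vv : ∑ i, v i * v i = 8
  ww : ∑ i, w i * w i = 8
  ee : ∑ i, e i * e i = 2
  uv : ∑ i, u i * v i = 0
  uw : ∑ i, u i * w i = 0
  vw : ∑ i, v i * w i = 0
  ue : ∑ i, u i * e i = 0
  ve : ∑ i, v i * e i = 0
  we : ∑ i, w i * e i = 0
  du : ∑ i, d i * u i = 0
  dv : ∑ i, d i * v i = 0
  dw : ∑ i, d i * w i = 0
  de : ∑ i, d i * e i = 0
  tu : ∑ i, ((3 * u i + v i + w i + 4 * e i) ^ 2 * u i : ℚ) / d i = 14 * (14400 / n)
  tv : ∑ i, ((3 * u i + v i + w i + 4 * e i) ^ 2 * v i : ℚ) / d i = -6 * (14400 / n)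
  tw : ∑ i, ((3 * u i + v i + w i + 4 * e i) ^ 2 * w i : ℚ) / d i = -6 * (14400 / n)
  te : ∑ i, ((3 * u i + v i + w i + 4 * e i) ^ 2 * e i : ℚ) / d i = 0
  gal : ∀ i, ∃ j, d j = d i ∧ u j = u i ∧ v j = w i ∧ w j = v i ∧ e j = e i

end Cfsg.Agent.JankoOne
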