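import Cfsg.Agent.Lib.JankoOne.Setup
import Cfsg.Agent.Lib.JankoOne.Table
import Cfsg.Agent.Lib.Small.ClassCount
import Cfsg.Agent.Lib.Char.Galois
import Cfsg.Agent.Lib.Char.Degree

/-!
Character values on the elements `t r`, the integrality of the generalised decomposition numbers and the
orthogonality relations: the table of a simple group with centraliser `Z₂ × A₅`.
-/

set_option autoImplicit false
set_option linter.style.haveILetI false

namespace Cfsg.Agent.JankoOne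

open Cfsg Cfsg.Agent.Char
open scoped ComplexConjugate

universe u

/-- The homomorphism out of a cyclic group attached to an element whose order divides `p`. -/
def powHom {p : ℕ} [NeZero p] {X : Type*} [Monoid X] (g : X) (hg : g ^ p = 1) :
    Multiplicative (ZMod p) →* X where
  toFun a := g ^ (Multiplicative.toAdd a).val
  map_one' := by simp
  map_mul' a b := by
    rw [toAdd_mul, ZMod.val_add, ← pow_add]
    exact (pow_eq_pow_mod _ hg).symm

theorem powHom_ofAdd {p : ℕ} [NeZero p] {X : Type*} [Monoid X] (g : X) (hg : g ^ p = 1) (a : ZMod p) :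
    powHom g hg (Multiplicative.ofAdd a) = g ^ a.val := rfl

theorem sum_five {A : Type*} [AddCommMonoid A] (f : Multiplicative (ZMod 5) → A) :
    ∑ a, f a = f (Multiplicative.ofAdd 0) + f (Multiplicative.ofAdd 1) + f (Multiplicative.ofAdd 2) +
      f (Multiplicative.ofAdd 3) + f (Multiplicative.ofAdd 4) := by
  rw [← Fintype.sum_equiv Multiplicative.ofAdd (fun a : ZMod 5 => f (Multiplicative.ofAdd a)) f fun _ => rfl]
  exact Fin.sum_univ_five _

theorem sum_two {A : Type*} [AddCommMonoid A] (f : Multiplicative (ZMod 2) → A) :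
    ∑ a, f a = f (Multiplicative.ofAdd 0) + f (Multiplicative.ofAdd 1) := by
  rw [← Fintype.sum_equiv Multiplicative.ofAdd (fun a : ZMod 2 => f (Multiplicative.ofAdd a)) f fun _ => rfl]
  exact Fin.sum_univ_two _

theorem exists_root : ∃ η : ℂ, η ^ 5 = 1 ∧ 1 + η + η ^ 2 + η ^ 3 + η ^ 4 = 0 := by
  have h := Complex.isPrimitiveRoot_exp 5 (by norm_num)
  refine ⟨_, h.pow_eq_one, ?_⟩
  have h1 := h.geom_sum_eq_zero (by norm_num : 1 < 5)
  simpa [Finset.sum_range_succ] using h1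

variable {G : Type u} [Group G] {ι : M →* G}

theorem diff_int {H : Type} [Group H] [Fintype H] {χ : G → ℂ} (hχ : IsCharacter G χ) (φ : H →* A5)
    (l : H →* ℂˣ) :
    ∃ z : ℤ, ∑ h, χ (ι (Multiplicative.ofAdd 1, φ h)) * conj (l h : ℂ) = (Fintype.card H : ℂ) * z := by
  classical
  let φ' : Multiplicative (ZMod 2) × H →* M := MonoidHom.prodMap (MonoidHom.id _) φ
  let ε : Multiplicative (ZMod 2) →* ℂˣ := powHom (-1) (by norm_num)
  let lp : Multiplicative (ZMod 2) × H →* ℂˣ := l.comp (MonoidHom.snd _ _)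
  let lm : Multiplicative (ZMod 2) × H →* ℂˣ := ε.comp (MonoidHom.fst _ _) * lp
  obtain ⟨p, hp⟩ := IsCharacter.exists_classInner_nat (IsCharacter.comp hχ (ι.comp φ'))
    (IsIrrCharacter.isCharacter (isIrrCharacter_linear lp))
  obtain ⟨q, hq⟩ := IsCharacter.exists_classInner_nat (IsCharacter.comp hχ (ι.comp φ'))
    (IsIrrCharacter.isCharacter (isIrrCharacter_linear lm))
  refine ⟨(p : ℤ) - q, ?_⟩
  have hne : (Nat.card (Multiplicative (ZMod 2) × H) : ℂ) ≠ 0 := Nat.cast_ne_zero.2 Nat.card_pos.ne'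
  simp only [Cfsg.classInner, inv_mul_eq_iff_eq_mul₀ hne, Fintype.sum_prod_type, sum_two] at hp hq
  have hcard : (Nat.card (Multiplicative (ZMod 2) × H) : ℂ) = 2 * Fintype.card H := by
    rw [Nat.card_prod, Nat.card_eq_fintype_card, Nat.card_eq_fintype_card, Fintype.card_multiplicative,
      ZMod.card]
    push_cast
    ring
  rw [hcard] at hp hq
  have e0 : ∀ h : H, (lm (Multiplicative.ofAdd 0, h) : ℂ) = (l h : ℂ) := fun h => by
    simp [lm, lp, ε, powHom_ofAdd]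
  have e1 : ∀ h : H, (lm (Multiplicative.ofAdd 1, h) : ℂ) = -(l h : ℂ) := fun h => by
    simp [lm, lp, ε, powHom_ofAdd, ZMod.val_one]
  simp only [e0, e1] at hq
  simp only [map_neg, mul_neg, Finset.sum_neg_distrib] at hq
  have h2 : ∀ a b : Multiplicative (ZMod 2) × H, a = b → (ι.comp φ') a = ι (b.1, φ b.2) := by
    rintro a b rfl; rfl
  simp only [fun a => h2 a a rfl] at hp hq
  push_cast
  have hp' : ∀ h : H, (lp (Multiplicative.ofAdd 1, h) : ℂ) = (l h : ℂ) := fun h => rfl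
  have hp0 : ∀ h : H, (lp (Multiplicative.ofAdd 0, h) : ℂ) = (l h : ℂ) := fun h => rfl
  simp only [hp', hp0] at hp
  linear_combination (1 / 2 : ℂ) * hp - (1 / 2 : ℂ) * hq

/-- Value of a function on `G` at the representative `tr i`. -/
abbrev val (ι : M →* G) (χ : G → ℂ) (i : Fin 4) : ℂ := χ (ι (tr i))

namespace Emb

variable (E : Emb ι)

include E

theorem tr_ne_one (i : Fin 4) : ι (tr i) ≠ 1 := fun h => tM_sq.2.1 (E.inj (by
  rw [← tr_pow i, map_pow, h, one_pow, map_one]))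

variable [Fintype G] [IsSimpleGroup G]

theorem val_cls {χ : G → ℂ} (hχ : IsCharacter G χ) (h : A5) :
    χ (ι (Multiplicative.ofAdd 1, h)) = val ι χ (cls h) := by
  have hcl := isClassFunction_iff.1 (IsCharacter.isClassFunction hχ)
  have e : ((Multiplicative.ofAdd 1, h) : M) = tM * (1, h) :=
    Prod.ext (mul_one _).symm (one_mul _).symm
  rw [e]
  rcases cls_spec h with h2 | ⟨g, hg⟩
  · rw [cls_sq h h2]
    have hsq : tM * (1, h) * (tM * (1, h)) = 1 :=
      Prod.ext (show Multiplicative.ofAdd (1 : ZMod 2) * 1 * (Multiplicative.ofAdd 1 * 1) = 1 by decide)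
        (show 1 * h * (1 * h) = 1 by rw [one_mul, h2])
    have hne : tM * (1, h) ≠ 1 := fun h' => fst_ne (congrArg Prod.fst h')
    refine (hcl _ _ (E.conj_t (by rw [← map_mul, hsq, map_one])
      fun h' => hne (E.inj (h'.trans (map_one ι).symm)))).symm.trans ?_
    rw [← tr_pow_galois.2.2.2.2.1]
  · exact hcl _ _ (isConj_iff.2 ⟨ι (1, g), by rw [← map_inv, ← map_mul, ← map_mul, hg]⟩)

theorem sum_cls {χ : G → ℂ} (hχ : IsCharacter G χ) (s : Finset A5) :
    ∑ h ∈ s, χ (ι (Multiplicative.ofAdd 1, h)) =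
      ∑ i : Fin 4, ((s.filter fun h => cls h = i).card : ℂ) * val ι χ i := by
  rw [← Finset.sum_fiberwise s cls]
  refine Finset.sum_congr rfl fun i _ => ?_
  rw [Finset.sum_congr rfl fun h hh => (E.val_cls hχ h).trans
    (congrArg (val ι χ) (Finset.mem_filter.1 hh).2), Finset.sum_const, nsmul_eq_mul]

theorem combos {χ : G → ℂ} (hχ : IsCharacter G χ) {η : ℂ} (h5 : η ^ 5 = 1) :
    (∃ z : ℤ, val ι χ 0 + 2 * val ι χ 2 + 2 * val ι χ 3 = 5 * z) ∧
    (∃ z : ℤ, val ι χ 0 + (η + η ^ 4) * val ι χ 2 + (η ^ 2 + η ^ 3) * val ι χ 3 = 5 * z) ∧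
    (∃ z : ℤ, val ι χ 0 + (η ^ 2 + η ^ 3) * val ι χ 2 + (η + η ^ 4) * val ι χ 3 = 5 * z) ∧
    (∃ z : ℤ, 4 * val ι χ 0 + 8 * val ι χ 1 = 12 * z) ∧
    (∃ z : ℤ, 16 * val ι χ 0 + 20 * val ι χ 1 + 12 * val ι χ 2 + 12 * val ι χ 3 = 60 * z) := by
  classical
  have hc : ∀ (ζ : ℂˣ) (hζ : ζ ^ 5 = 1), ∃ z : ℤ,
      val ι χ 0 + (conj (ζ : ℂ) + conj (ζ : ℂ) ^ 4) * val ι χ 2 +
        (conj (ζ : ℂ) ^ 2 + conj (ζ : ℂ) ^ 3) * val ι χ 3 = 5 * z := by
    intro ζ hζ
    obtain ⟨z, hz⟩ := diff_int (ι := ι) hχ (powHom y5 y5_pow.1) (powHom ζ hζ)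
    refine ⟨z, ?_⟩
    rw [sum_five, Fintype.card_multiplicative, ZMod.card] at hz
    simp only [powHom_ofAdd, Units.val_pow_eq_pow_val, map_pow, E.val_cls hχ] at hz
    have hy := y5_pow.2
    rw [show ((0 : ZMod 5).val) = ((0 : Fin 5) : ℕ) from rfl, show ((1 : ZMod 5).val) = ((1 : Fin 5) : ℕ) from rfl,
      show ((2 : ZMod 5).val) = ((2 : Fin 5) : ℕ) from rfl, show ((3 : ZMod 5).val) = ((3 : Fin 5) : ℕ) from rfl,
      show ((4 : ZMod 5).val) = ((4 : Fin 5) : ℕ) from rfl, hy, hy, hy, hy, hy] at hz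
    simp only [Matrix.cons_val, Fin.isValue, Fin.val_zero, Fin.val_one, Fin.val_two] at hz
    rw [show ((3 : Fin 5) : ℕ) = 3 from rfl, show ((4 : Fin 5) : ℕ) = 4 from rfl] at hz
    push_cast at hz
    linear_combination hz
  have hη : η ≠ 0 := fun h => by simp [h] at h5
  have hconj : ∀ k : ℕ, conj ((conj η) ^ k) = η ^ k := fun k => by rw [map_pow, Complex.conj_conj]
  refine ⟨?_, ?_, ?_, ?_, ?_⟩
  · obtain ⟨z, hz⟩ := hc 1 (one_pow _)
    refine ⟨z, ?_⟩
    simp only [Units.val_one, map_one, one_pow] at hz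
    linear_combination hz
  · obtain ⟨z, hz⟩ := hc (Units.mk0 (conj η) ((map_ne_zero _).2 hη)) (Units.ext (by
      simp [← map_pow, h5]))
    refine ⟨z, ?_⟩
    simp only [Units.val_mk0, Complex.conj_conj] at hz
    exact hz
  · obtain ⟨z, hz⟩ := hc (Units.mk0 ((conj η) ^ 2) (pow_ne_zero _ ((map_ne_zero _).2 hη))) (Units.ext (by
      rw [Units.val_pow_eq_pow_val, Units.val_mk0, ← pow_mul, mul_comm, pow_mul, ← map_pow, h5, map_one,
        one_pow, Units.val_one]))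
    refine ⟨z, ?_⟩
    simp only [Units.val_mk0, hconj] at hz
    linear_combination hz - (η ^ 3) * val ι χ 2 * h5 - η * val ι χ 3 * h5
  · obtain ⟨z, hz⟩ := diff_int (ι := ι) hχ (MulAction.stabilizer A5 (4 : Fin 5)).subtype 1
    refine ⟨z, ?_⟩
    simp only [MonoidHom.one_apply, Units.val_one, map_one, mul_one, Subgroup.coe_subtype] at hz
    have hs : ∀ h : A5, h ∈ (Finset.univ.filter fun h : A5 => h.1 4 = 4) ↔
        h ∈ MulAction.stabilizer A5 (4 : Fin 5) := fun h => by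
      simp only [Finset.mem_filter, Finset.mem_univ, true_and, MulAction.mem_stabilizer_iff]
      rfl
    rw [← Finset.sum_subtype _ hs (fun h : A5 => χ (ι (Multiplicative.ofAdd 1, h))),
      E.sum_cls hχ] at hz
    simp only [Finset.filter_filter, cls_count_four, Fin.sum_univ_four, Matrix.cons_val,
      Fintype.card_of_subtype _ hs] at hz
    rw [show (Finset.univ.filter fun h : A5 => h.1 4 = 4).card = 12 by decide +kernel] at hz
    push_cast at hz
    linear_combination hz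
  · obtain ⟨z, hz⟩ := diff_int (ι := ι) hχ (MonoidHom.id A5) 1
    refine ⟨z, ?_⟩
    simp only [MonoidHom.one_apply, Units.val_one, map_one, mul_one, MonoidHom.id_apply] at hz
    rw [E.sum_cls hχ] at hz
    simp only [cls_count, Fin.sum_univ_four, Matrix.cons_val,
      show Fintype.card A5 = 60 by decide +kernel] at hz
    push_cast at hz
    linear_combination hz

theorem cong_eight {χ : G → ℂ} (hχ : IsCharacter G χ) :
    ∃ z : ℕ, χ 1 + 7 * val ι χ 0 = 8 * z := by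
  classical
  obtain ⟨z, hz⟩ := IsCharacter.exists_classInner_nat (IsCharacter.comp hχ (ι.comp P0.subtype))
    (IsIrrCharacter.isCharacter (isIrrCharacter_one (G := P0)))
  refine ⟨z, ?_⟩
  have h8 : (Nat.card P0 : ℂ) = 8 := by rw [card_P0]; norm_num
  simp only [Cfsg.classInner, map_one, mul_one, h8, inv_mul_eq_iff_eq_mul₀ (by norm_num : (8 : ℂ) ≠ 0)] at hz
  simp only [MonoidHom.comp_apply, Subgroup.coe_subtype] at hz
  rw [← hz, ← Finset.add_sum_erase _ _ (Finset.mem_univ (1 : P0))]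
  have hcl := isClassFunction_iff.1 (IsCharacter.isClassFunction hχ)
  rw [Finset.sum_congr rfl fun (p : P0) hp => ((hcl _ _ (E.fusion.1 (p : M) p.2 fun h =>
    (Finset.mem_erase.1 hp).1 (Subtype.ext h))).symm : _ = χ (ι tM))]
  rw [Finset.sum_const, Finset.card_erase_of_mem (Finset.mem_univ _),
    Finset.card_univ, ← Nat.card_eq_fintype_card, card_P0, Subgroup.coe_one, map_one,
    nsmul_eq_mul, val, tr_pow_galois.2.2.2.2.1]
  norm_num

theorem val_real {χ : G → ℂ} (hχ : IsCharacter G χ) (i : Fin 4) : conj (val ι χ i) = val ι χ i := by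
  obtain ⟨g, hg⟩ := tr_real i
  rw [val, ← IsCharacter.inv hχ, ← map_inv, ← hg, map_mul, map_mul, map_inv,
    IsCharacter.isClassFunction hχ]

theorem col_orth (i j : Fin 4) :
    ∑ χ : IrrCharacter G, val ι χ.1 i * val ι χ.1 j =
      if i = j then ((![120, 6, 10, 10] i : ℕ) : ℂ) else 0 := by
  have e : ∀ χ : IrrCharacter G, val ι χ.1 i * val ι χ.1 j = val ι χ.1 i * conj (val ι χ.1 j) :=
    fun χ => by rw [E.val_real (IsIrrCharacter.isCharacter χ.2)]
  simp only [e]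
  split_ifs with h
  · subst h
    rw [column_orth_of_isConj (IsConj.refl _), E.card_cent _ (tr_pow i), tr_cent i]
  · exact column_orth_of_not_isConj fun hc => h (tr_ne i j (E.isConj_model hc (tr_pow i) (tr_pow j)))

theorem deg_orth (i : Fin 4) : ∑ χ : IrrCharacter G, χ.1 1 * val ι χ.1 i = 0 := by
  have e : ∀ χ : IrrCharacter G, χ.1 1 * val ι χ.1 i = χ.1 1 * conj (val ι χ.1 i) :=
    fun χ => by rw [E.val_real (IsIrrCharacter.isCharacter χ.2)]
  simp only [e]
  exact column_orth_of_not_isConj fun hc => E.tr_ne_one i (isConj_one_right.1 hc)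

theorem pair_eq (i : Fin 4) :
    ∑ χ : IrrCharacter G, val ι χ.1 0 ^ 2 * val ι χ.1 i / χ.1 1 =
      (![30, 6, 10, 10] i : ℕ) * (14400 / (Nat.card G : ℂ)) := by
  have h := ClassCount.pair_count (ι tM) (ι tM) (ι (tr i))
  have hc := E.card_cent _ (tr_pow 0)
  rw [tr_pow_galois.2.2.2.2.1] at hc
  have hc0 := tr_cent 0
  rw [tr_pow_galois.2.2.2.2.1] at hc0
  rw [E.nat_pairs _ (tr_pow i), tr_pairs i, hc, hc0] at h
  have hG : (Nat.card G : ℂ) ≠ 0 := Nat.cast_ne_zero.2 Nat.card_pos.ne'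
  rw [mul_div_assoc', eq_div_iff hG, mul_comm]
  refine Eq.trans ?_ (h.symm.trans ?_)
  · congr 1
    refine Finset.sum_congr rfl fun χ _ => ?_
    rw [pow_two]
    conv_rhs => rw [show conj ((χ : G → ℂ) (ι (tr i))) = val ι χ.1 i from
      E.val_real (IsIrrCharacter.isCharacter χ.2) i, ← tr_pow_galois.2.2.2.2.1]
  · norm_num
    ring

theorem galois {η : ℂ} (h5 : η ^ 5 = 1) (χ : IrrCharacter G) :
    ∃ ψ : IrrCharacter G, ψ.1 1 = χ.1 1 ∧ val ι ψ.1 0 = val ι χ.1 0 ∧ val ι ψ.1 1 = val ι χ.1 1 ∧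
      val ι ψ.1 2 = val ι χ.1 3 ∧ val ι ψ.1 3 = val ι χ.1 2 := by
  obtain ⟨σ, hσ⟩ := CharGalois.exists_galoisAut (n := 5) (k := 2) (by norm_num) (by decide)
  have hn : (Nat.card G) ≠ 0 := Nat.card_pos.ne'
  obtain ⟨k, hk, hk'⟩ := CharGalois.exists_exponent σ.toRingHom hn
  have hdvd : 840 ∣ Nat.card G := E.dvd_card
  have hk5 : k % 5 = 2 := by
    obtain ⟨ζ, hζ⟩ : ∃ ζ : ℂ, IsPrimitiveRoot ζ 5 := ⟨_, Complex.isPrimitiveRoot_exp 5 (by norm_num)⟩
    obtain ⟨m, hm⟩ := (show 5 ∣ Nat.card G from Dvd.dvd.trans (by norm_num) hdvd)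
    have h1 := hk' ζ (by rw [hm, pow_mul, hζ.pow_eq_one, one_pow])
    rw [show σ.toRingHom ζ = σ ζ from rfl, hσ ζ hζ.pow_eq_one, pow_eq_pow_mod k hζ.pow_eq_one] at h1
    exact (hζ.pow_inj (by norm_num) (Nat.mod_lt _ (by norm_num)) h1).symm
  have hk2 : k % 2 = 1 := Nat.odd_iff.1 (Nat.coprime_two_right.1
    (hk.coprime_dvd_right (Dvd.dvd.trans (by norm_num) hdvd)))
  have hk3 : k % 3 ≠ 0 := fun h => by
    have h3 : Nat.Coprime k 3 := hk.coprime_dvd_right (Dvd.dvd.trans (by norm_num) hdvd)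
    exact absurd (Nat.eq_one_of_dvd_coprimes h3 (Nat.dvd_of_mod_eq_zero h) dvd_rfl) (by norm_num)
    -- `k` is prime to three
  have hχ := IsIrrCharacter.isCharacter χ.2
  refine ⟨⟨fun g => σ (χ.1 g), CharGalois.IsIrrCharacter.twist χ.2 σ⟩, ?_⟩
  have hval : ∀ g, σ (χ.1 g) = χ.1 (g ^ k) := CharGalois.map_char hχ σ.toRingHom hk'
  have hcl := isClassFunction_iff.1 (IsCharacter.isClassFunction hχ)
  have hconj : ∀ (i j : Fin 4) (p r : ℕ), tr i ^ p = 1 → k % p = r →
      (∃ g : M, g * tr i ^ r * g⁻¹ = tr j) → χ.1 (ι (tr i) ^ k) = val ι χ.1 j := by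
    rintro i j p r hp rfl ⟨g, hg⟩
    rw [← map_pow, pow_eq_pow_mod k hp]
    exact hcl _ _ (isConj_iff.2 ⟨ι g, by rw [← map_inv, ← map_mul, ← map_mul, hg]⟩)
  obtain ⟨g1, g5, g2, g3, h0, p1, p2, p3⟩ := tr_pow_galois
  simp only [val, hval, one_pow, true_and]
  refine ⟨?_, ?_, hconj 2 3 10 7 p2 (by omega) g2, hconj 3 2 10 7 p3 (by omega) g3⟩
  · refine hconj 0 0 2 1 (by rw [h0, pow_two, tM_sq.1]) hk2 ⟨1, by simp⟩
  · rcases (show k % 6 = 1 ∨ k % 6 = 5 by omega) with h | h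
    exacts [hconj 1 1 6 1 p1 h g1, hconj 1 1 6 5 p1 h g5]

theorem exists_table : ∃ d u v w e : IrrCharacter G → ℤ,
    Table (Nat.card G) (principal G) d u v w e ∧ ∀ χ : IrrCharacter G, χ.1 1 = (d χ : ℂ) := by
  obtain ⟨η, h5, hsum⟩ := exists_root
  let s : ℂ := 2 * (η + η ^ 4) + 1
  have hs : s * s = 5 := by
    simp only [s]
    linear_combination 4 * hsum + (4 * η ^ 3 + 8) * h5
  have hs' : η ^ 2 + η ^ 3 = -1 - (η + η ^ 4) := by linear_combination hsum
  let d : IrrCharacter G → ℤ := fun χ => (Cfsg.charDegree (χ : G → ℂ) : ℤ)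
  have hd : ∀ χ : IrrCharacter G, χ.1 1 = (d χ : ℂ) := fun χ => by
    rw [CharX.irr_deg χ]; simp [d]
  have key : ∀ χ : IrrCharacter G, ∃ u v w e : ℤ,
      (5 * u : ℂ) = val ι χ.1 0 + 2 * (val ι χ.1 2 + val ι χ.1 3) ∧
      (15 * e : ℂ) = val ι χ.1 0 + 5 * val ι χ.1 1 - 3 * (val ι χ.1 2 + val ι χ.1 3) ∧
      (5 * (v + 2 * e) : ℂ) =
        val ι χ.1 0 - 3 * (val ι χ.1 2 + val ι χ.1 3) + s * (val ι χ.1 2 - val ι χ.1 3) ∧
      (5 * (w + 2 * e) : ℂ) =
        val ι χ.1 0 - 3 * (val ι χ.1 2 + val ι χ.1 3) - s * (val ι χ.1 2 - val ι χ.1 3) ∧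
      2 ∣ u - v ∧ 2 ∣ u - w := by
    intro χ
    obtain ⟨⟨z0, h0⟩, ⟨z1, h1⟩, ⟨z2, h2⟩, ⟨za, ha⟩, ⟨zb, hb⟩⟩ :=
      E.combos (IsIrrCharacter.isCharacter χ.2) h5
    rw [hs'] at h1 h2
    refine ⟨z0, 2 * (z1 - (za - zb)) - z0, 2 * (z2 - (za - zb)) - z0, za - zb, ?_, ?_, ?_, ?_,
      ⟨z0 - (z1 - (za - zb)), by ring⟩, ⟨z0 - (z2 - (za - zb)), by ring⟩⟩ <;> push_cast <;>
      (try simp only [s])
    · linear_combination -h0
    · linear_combination (-5 / 4 : ℂ) * ha + (1 / 4 : ℂ) * hb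
    · linear_combination h0 - 2 * h1
    · linear_combination h0 - 2 * h2
  choose u v w e hu he hv hw hpv hpw using key
  have hT : ∀ χ : IrrCharacter G,
      val ι χ.1 0 = ((3 * u χ + v χ + w χ + 4 * e χ : ℤ) : ℂ) := fun χ => by
    push_cast
    linear_combination (-3 / 5 : ℂ) * hu χ - (1 / 5 : ℂ) * hv χ - (1 / 5 : ℂ) * hw χ
  let cu : Fin 4 → ℂ := ![1 / 5, 0, 2 / 5, 2 / 5]
  let ce : Fin 4 → ℂ := ![1 / 15, 1 / 3, -1 / 5, -1 / 5]
  let cv : Fin 4 → ℂ := ![1 / 15, -2 / 3, -1 / 5 + s / 5, -1 / 5 - s / 5]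
  let cw : Fin 4 → ℂ := ![1 / 15, -2 / 3, -1 / 5 - s / 5, -1 / 5 + s / 5]
  have lu : ∀ χ : IrrCharacter G, (u χ : ℂ) = ∑ i, cu i * val ι χ.1 i := fun χ => by
    simp only [cu, Fin.sum_univ_four, Matrix.cons_val]
    linear_combination (1 / 5 : ℂ) * hu χ
  have le : ∀ χ : IrrCharacter G, (e χ : ℂ) = ∑ i, ce i * val ι χ.1 i := fun χ => by
    simp only [ce, Fin.sum_univ_four, Matrix.cons_val]
    linear_combination (1 / 15 : ℂ) * he χ
  have lv : ∀ χ : IrrCharacter G, (v χ : ℂ) = ∑ i, cv i * val ι χ.1 i := fun χ => by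
    simp only [cv, Fin.sum_univ_four, Matrix.cons_val]
    linear_combination (1 / 5 : ℂ) * hv χ - (2 / 15 : ℂ) * he χ
  have lw : ∀ χ : IrrCharacter G, (w χ : ℂ) = ∑ i, cw i * val ι χ.1 i := fun χ => by
    simp only [cw, Fin.sum_univ_four, Matrix.cons_val]
    linear_combination (1 / 5 : ℂ) * hw χ - (2 / 15 : ℂ) * he χ
  have gram : ∀ {f g : IrrCharacter G → ℤ} {cf cg : Fin 4 → ℂ} (r : ℤ),
      (∀ χ, (f χ : ℂ) = ∑ i, cf i * val ι χ.1 i) → (∀ χ, (g χ : ℂ) = ∑ i, cg i * val ι χ.1 i) →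
      ∑ i, cf i * cg i * ((![120, 6, 10, 10] i : ℕ) : ℂ) = r → ∑ χ, f χ * g χ = r := by
    intro f g cf cg r hf hg hr
    have : ∑ χ, ((f χ * g χ : ℤ) : ℂ) = (r : ℂ) := by
      rw [← hr]
      push_cast
      simp only [hf, hg, Finset.sum_mul_sum]
      rw [Finset.sum_comm]
      refine Finset.sum_congr rfl fun i _ => ?_
      rw [Finset.sum_comm]
      have hij : ∀ j, ∑ χ : IrrCharacter G, cf i * val ι χ.1 i * (cg j * val ι χ.1 j) =
          if i = j then cf i * cg j * ((![120, 6, 10, 10] i : ℕ) : ℂ) else 0 := fun j => by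
        have := congrArg (fun x => cf i * cg j * x) (E.col_orth i j)
        simp only [Finset.mul_sum, mul_ite, mul_zero] at this
        rw [← this]
        exact Finset.sum_congr rfl fun χ _ => by ring
      simp only [hij, Finset.sum_ite_eq, Finset.mem_univ, if_true]
    exact_mod_cast this
  have dlin : ∀ {f : IrrCharacter G → ℤ} {cf : Fin 4 → ℂ},
      (∀ χ, (f χ : ℂ) = ∑ i, cf i * val ι χ.1 i) → ∑ χ, d χ * f χ = 0 := by
    intro f cf hf
    have : ∑ χ, ((d χ * f χ : ℤ) : ℂ) = 0 := by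
      push_cast
      simp only [hf, ← hd, Finset.mul_sum]
      rw [Finset.sum_comm]
      refine Finset.sum_eq_zero fun i _ => ?_
      rw [← mul_zero (cf i), ← E.deg_orth i, Finset.mul_sum]
      exact Finset.sum_congr rfl fun χ _ => by ring
    exact_mod_cast this
  have tsum : ∀ {f : IrrCharacter G → ℤ} {cf : Fin 4 → ℂ} (r : ℤ),
      (∀ χ, (f χ : ℂ) = ∑ i, cf i * val ι χ.1 i) →
      ∑ i, cf i * ((![30, 6, 10, 10] i : ℕ) : ℂ) = r →
      ∑ χ, (((3 * u χ + v χ + w χ + 4 * e χ : ℤ) : ℚ) ^ 2 * f χ) / d χ = r * (14400 / Nat.card G) := by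
    intro f cf r hf hr
    refine (Rat.cast_injective (α := ℂ)) ?_
    push_cast
    rw [← hr, Finset.sum_mul]
    have ht : ∀ χ : IrrCharacter G, val ι χ.1 0 =
        3 * (u χ : ℂ) + v χ + w χ + 4 * e χ := fun χ => by rw [hT χ]; push_cast; ring
    simp only [hf, ← ht, ← hd, Finset.mul_sum, Finset.sum_div]
    rw [Finset.sum_comm]
    refine Finset.sum_congr rfl fun i _ => ?_
    rw [mul_assoc, ← E.pair_eq i, Finset.mul_sum]
    exact Finset.sum_congr rfl fun χ _ => by ring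
  have hG0 : 2 ≤ Nat.card G := by
    obtain ⟨k, hk⟩ := E.dvd_card
    have := Nat.card_pos (α := G)
    omega
  refine ⟨d, u, v, w, e, ⟨fun χ => by simpa [d] using CharX.irr_deg_pos χ,
    fun χ => Int.natCast_dvd_natCast.2 (CharX.irr_deg_dvd_card χ), ?_, ?_, ?_, ?_, ?_, ?_, ?_,
    hpv, hpw, ?_, gram 8 lu lu ?_, gram 8 lv lv ?_, gram 8 lw lw ?_, gram 2 le le ?_, gram 0 lu lv ?_,
    gram 0 lu lw ?_, gram 0 lv lw ?_, gram 0 lu le ?_, gram 0 lv le ?_, gram 0 lw le ?_,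
    dlin lu, dlin lv, dlin lw, dlin le, ?_, ?_, ?_, ?_, ?_⟩, hd⟩
  · show ∑ χ : IrrCharacter G, (Cfsg.charDegree (χ : G → ℂ) : ℤ) ^ 2 = _
    exact_mod_cast CharX.sum_deg_sq (G := G)
  · -- a linear character is trivial
    intro χ h1
    obtain ⟨f, hf⟩ := exists_hom_of_degree_one (IsIrrCharacter.isCharacter χ.2) (by rw [hd, h1]; simp)
    rcases f.normal_ker.eq_bot_or_eq_top with hb | ht
    · exfalso
      have hc : ((1, x5) : M) * (1, y5) = (1, y5) * (1, x5) := E.inj ((MonoidHom.ker_eq_bot_iff f).1 hb (by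
        rw [map_mul, map_mul, map_mul, map_mul, mul_comm]))
      exact absurd hc (by decide +kernel)
    · refine Subtype.ext (funext fun g => ?_)
      rw [hf]
      show ((f g : ℂˣ) : ℂ) = 1
      rw [MonoidHom.mem_ker.1 (ht ▸ Subgroup.mem_top g), Units.val_one]
  · exact_mod_cast ((hd (principal G)).symm.trans rfl : (d (principal G) : ℂ) = 1)
  all_goals have hp1 : ∀ i, val ι (principal G).1 i = 1 := fun i => rfl
  · exact_mod_cast (show (u (principal G) : ℂ) = 1 by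
      rw [lu]; simp only [hp1, cu, Fin.sum_univ_four, Matrix.cons_val]; ring)
  · exact_mod_cast (show (v (principal G) : ℂ) = -1 by
      rw [lv]; simp only [hp1, cv, Fin.sum_univ_four, Matrix.cons_val]; ring)
  · exact_mod_cast (show (w (principal G) : ℂ) = -1 by
      rw [lw]; simp only [hp1, cw, Fin.sum_univ_four, Matrix.cons_val]; ring)
  · exact_mod_cast (show (e (principal G) : ℂ) = 0 by
      rw [le]; simp only [hp1, ce, Fin.sum_univ_four, Matrix.cons_val]; ring)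
  · intro χ
    obtain ⟨z, hz⟩ := E.cong_eight (IsIrrCharacter.isCharacter χ.2)
    have h8 : d χ + 7 * (3 * u χ + v χ + w χ + 4 * e χ) = 8 * (z : ℤ) := by
      rw [hd, hT] at hz
      exact_mod_cast hz
    omega
  all_goals try
    (simp only [cu, cv, cw, ce, Fin.sum_univ_four, Matrix.cons_val]
     push_cast
     first
      | ring1
      | linear_combination (4 / 5 : ℂ) * hs
      | linear_combination (-4 / 5 : ℂ) * hs)
  · have h := tsum (f := u) 14 lu (by simp only [cu, Fin.sum_univ_four, Matrix.cons_val]; norm_num)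
    push_cast at h ⊢; exact h
  · have h := tsum (f := v) (-6) lv (by simp only [cv, Fin.sum_univ_four, Matrix.cons_val]; push_cast; ring)
    push_cast at h ⊢; exact h
  · have h := tsum (f := w) (-6) lw (by simp only [cw, Fin.sum_univ_four, Matrix.cons_val]; push_cast; ring)
    push_cast at h ⊢; exact h
  · have h := tsum (f := e) 0 le (by simp only [ce, Fin.sum_univ_four, Matrix.cons_val]; norm_num)
    push_cast at h ⊢; rw [zero_mul] at h; exact h
  · intro χ
    obtain ⟨ψ, h1, g0, g1, g2, g3⟩ := E.galois h5 χ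
    refine ⟨ψ, ?_, ?_, ?_, ?_, ?_⟩
    · exact_mod_cast ((hd ψ).symm.trans (h1.trans (hd χ)))
    all_goals
      refine Int.cast_injective (α := ℂ) ?_
      simp only [lu, lv, lw, le, cu, cv, cw, ce, Fin.sum_univ_four, Matrix.cons_val, g0, g1, g2, g3]
      ring

end Emb

end Cfsg.Agent.JankoOne
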